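import Cfsg.Agent.Lib.SpinNine.Split

/-!
Moving elements between the split extension in dimension eight and the group in dimension nine.
-/

set_option autoImplicit false
set_option linter.unusedSectionVars false

namespace Cfsg.Agent.SpinNine

open FormsLib FormTorus OrthClasses SpEightEven

universe u v w

variable {F : Type u} [Field F] [Fintype F]

section Defs

variable {V : Type v} [AddCommGroup V] [Module F V]

/-- An element of the derived group and a vector whose common exponents are multiples of `N`. -/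
def HOrd (Q : QuadraticForm F V) (N : ℕ) : Prop :=
  ∃ h : oGroup Q, h ∈ commutator (oGroup Q) ∧ ∃ v, ∀ j, h ^ j = 1 →
    (∑ i ∈ Finset.range j, (en h.1) ^ i) v = 0 → N ∣ j

theorem hOrd_dvd {Q : QuadraticForm F V} {N N' : ℕ} (h : HOrd Q N) (hd : N' ∣ N) : HOrd Q N' := by
  obtain ⟨g, hg, v, hv⟩ := h
  exact ⟨g, hg, v, fun j h1 h2 => hd.trans (hv j h1 h2)⟩

theorem hOrd_trans {W : Type w} [AddCommGroup W] [Module F W] [FiniteDimensional F V]
    [FiniteDimensional F W] {Q : QuadraticForm F V} {Q' : QuadraticForm F W} (L : V ≃ₗ[F] W)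
    (hL : ∀ v, Q' (L v) = Q v) {N : ℕ} (h : HOrd Q N) : HOrd Q' N := by
  obtain ⟨g, hg, v, hv⟩ := h
  refine ⟨oTrans L hL g, transport_mem _ hg, L v, fun j h1 h2 => hv j ?_ ?_⟩
  · exact (oTrans L hL).injective (by rw [map_pow, h1, map_one])
  · rw [sum_oTrans, LinearEquiv.map_eq_zero_iff] at h2
    exact h2

theorem pow_eq_one_iff_en {Q : QuadraticForm F V} (g : oGroup Q) (j : ℕ) : g ^ j = 1 ↔ (en g.1) ^ j = 1 := by
  rw [← en_oGroup_pow]
  exact ⟨fun h => by rw [h]; rfl, fun h => Subtype.ext (LinearEquiv.toLinearMap_injective h)⟩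

theorem orderOf_eq_en {Q : QuadraticForm F V} (g : oGroup Q) : orderOf g = orderOf (en g.1) :=
  Nat.dvd_antisymm (orderOf_dvd_of_pow_eq_one ((pow_eq_one_iff_en g _).2 (pow_orderOf_eq_one _)))
    (orderOf_dvd_of_pow_eq_one ((pow_eq_one_iff_en g _).1 (pow_orderOf_eq_one g)))

end Defs

variable (p : ℕ) [hp : Fact p.Prime] [hchar : CharP F p]

theorem odd_p (h2 : (2 : F) ≠ 0) : Odd p := hp.out.odd_of_ne_two fun h => h2 (by
  subst h
  exact CharP.cast_eq_zero F 2)

section Nil

variable {V : Type v} [AddCommGroup V] [Module F V] [FiniteDimensional F V]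

theorem nil_pow (T : Module.End F V) {D j : ℕ} (hT : (T - 1) ^ D = 0) (hj : Module.finrank F V ≤ j) :
    (T - 1) ^ j = 0 := pow_eq_zero_of_le hj (pow_finrank_eq_zero hT)

theorem unip_pow {Q : QuadraticForm F V} (u : oGroup Q) {D : ℕ} (h : (en u.1 - 1) ^ D = 0) {c : ℕ}
    (hc : Module.finrank F V ≤ p ^ c) : u ^ p ^ c = 1 := by
  rw [pow_eq_one_iff_en]
  rcases subsingleton_or_nontrivial V with hs | hn
  · exact LinearMap.ext fun v => Subsingleton.elim _ _
  · exact (pow_prime_pow_eq_one_iff p _ c).2 (nil_pow (en u.1) h hc)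

end Nil

section Upper

variable {V : Type u} [AddCommGroup V] [Module F V] [FiniteDimensional F V]

include hp hchar in
/-- The parities of the parts of a splitting. -/
theorem split_inv (h2 : (2 : F) ≠ 0) {Q : QuadraticForm F V} (hQ : (QuadraticMap.polarBilin Q).Nondegenerate)
    (g : oGroup Q) (hg : g ∈ commutator (oGroup Q)) :
    ∃ (U W : Submodule F V) (e : (U × W) ≃ₗ[F] V)
      (he : ∀ x, Q (e x) = (Q.comp U.subtype).prod (Q.comp W.subtype) x)
      (gU : oGroup (Q.comp U.subtype)) (gW : oGroup (Q.comp W.subtype)),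
      (QuadraticMap.polarBilin (Q.comp U.subtype)).Nondegenerate ∧
      (QuadraticMap.polarBilin (Q.comp W.subtype)).Nondegenerate ∧
      g = oTrans e he (oProd (Q.comp U.subtype) (Q.comp W.subtype) (gU, gW)) ∧
      (en gU.1 - 1) ^ Module.finrank F V = 0 ∧ (∀ w, gW.1 w = w → w = 0) ∧
      Spinor.dick gW = 1 ∧ Spinor.spin gW = 1 ∧ Even (Module.finrank F W) ∧
      Module.finrank F U + Module.finrank F W = Module.finrank F V := by
  obtain ⟨U, W, e, he, gU, gW, hU, hW, heq, hnil, hfix⟩ := exists_split hQ g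
  have hm : oProd (Q.comp U.subtype) (Q.comp W.subtype) (gU, gW) ∈
      commutator (oGroup ((Q.comp U.subtype).prod (Q.comp W.subtype))) := by
    have := transport_mem (oTrans e he).symm hg
    rwa [heq, MulEquiv.symm_apply_apply] at this
  obtain ⟨e1, e2⟩ := inv_oProd h2 hU hW gU gW
  obtain ⟨d1, d2⟩ := (mem_commutator_iff' h2 (OrthClasses.prod_nondeg hU hW) _).1 hm
  obtain ⟨c1, c2⟩ := odd_inv h2 hU ((odd_p p h2).pow (n := Module.finrank F U)) (unip_pow p gU hnil
    (Nat.lt_pow_self hp.out.one_lt).le)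
  rw [e1, c1, one_mul] at d1
  rw [e2, c2, one_mul] at d2
  refine ⟨U, W, e, he, gU, gW, hU, hW, heq, hnil, hfix, d1, d2, ?_, ?_⟩
  · have hb : Spinor.fixS gW.1 = ⊥ := (Submodule.eq_bot_iff _).2 fun v hv => hfix v (Spinor.mem_fixS.1 hv)
    have h3 := Spinor.rk_add gW.1
    rw [hb, finrank_bot, add_zero] at h3
    rw [← h3]
    by_contra ho
    rw [Spinor.dick, (Nat.not_even_iff_odd.1 ho).neg_one_pow] at d1
    exact absurd d1 (by decide)
  · rw [← Module.finrank_prod, e.finrank_eq]

include hp hchar in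
/-- Elements of the extension in dimension eight are dominated in dimension nine. -/
theorem nine_of_eight (h2 : (2 : F) ≠ 0) {Q : QuadraticForm F V}
    (hQ : (QuadraticMap.polarBilin Q).Nondegenerate) (hd : Module.finrank F V = 8) (g : oGroup Q)
    (hg : g ∈ commutator (oGroup Q)) :
    ∃ N ∈ Set.range (orderOf : Cfsg.POmega F (Cfsg.quadFormOdd 4 F) → ℕ),
      g ^ N = 1 ∧ ∑ i ∈ Finset.range N, (en g.1) ^ i = 0 := by
  obtain ⟨U, W, e, he, gU, gW, hU, hW, heq, hnil, hfix, d1, d2, ⟨r, hr⟩, hsum⟩ := split_inv p h2 hQ g hg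
  set m := Module.finrank F U / 2 with hmdef
  have hUd : Module.finrank F U = 2 * m := by omega
  set C := Nat.clog p (2 * m + 1) with hC
  obtain ⟨Qr, ur, hQr, ⟨M, hM⟩, hne⟩ := exists_reg_odd p (F := F) h2 m
  obtain ⟨c1, c2⟩ := odd_inv h2 hQr ((odd_p p h2).pow (n := M)) hM
  have hmem := oProd_mem h2 hW hQr (a := gW) (b := ur) (by rw [d1, c1, one_mul]) (by rw [d2, c2, one_mul])
  have hfin : Module.finrank F (W × (Fin (2 * m + 1) → F)) = 2 * 4 + 1 := by
    rw [Module.finrank_prod, Module.finrank_fin_fun]; omega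
  refine ⟨_, PrimeGraphBC.pomega_witness h2 (by norm_num) hfin (OrthClasses.prod_nondeg hW hQr) hmem rfl, ?_⟩
  rw [orderOf_oProd]
  set N := Nat.lcm (orderOf gW) (orderOf ur) with hN
  have hpC : p ^ C ∣ N := by
    refine dvd_trans ?_ (Nat.dvd_lcm_right _ _)
    obtain ⟨i, -, hi⟩ := (Nat.dvd_prime_pow hp.out).1 (orderOf_dvd_of_pow_eq_one hM)
    rw [hi]
    refine pow_dvd_pow p ?_
    by_contra hlt
    refine hne ?_
    have h1 : ur ^ p ^ (C - 1) = 1 := orderOf_dvd_iff_pow_eq_one.1 (hi ▸ pow_dvd_pow p (by omega))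
    have hlow : p ^ (C - 1) < 2 * m + 1 := by
      have : 1 < 2 * m + 1 := by
        rcases Nat.eq_zero_or_pos m with h0 | h0
        · rw [hC, h0] at hlt; simp at hlt
        · omega
      exact Nat.pow_pred_clog_lt_self hp.out.one_lt this
    exact pow_eq_zero_of_le (by omega) ((pow_prime_pow_eq_one_iff p _ _).1 ((pow_eq_one_iff_en ur _).1 h1))
  have hWN : gW ^ N = 1 := orderOf_dvd_iff_pow_eq_one.1 (Nat.dvd_lcm_left _ _)
  have hCle : 2 * m + 1 ≤ p ^ C := Nat.le_pow_clog hp.out.one_lt _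
  have hUC : gU ^ p ^ C = 1 := unip_pow p gU hnil (by omega)
  have hUN : gU ^ N = 1 := orderOf_dvd_iff_pow_eq_one.1 ((orderOf_dvd_of_pow_eq_one hUC).trans hpC)
  refine ⟨?_, ?_⟩
  · rw [heq, ← map_pow, ← map_pow, Prod.pow_mk, hUN, hWN, Prod.mk_one_one, map_one, map_one]
  · obtain ⟨k, hk⟩ := hpC
    refine LinearMap.ext fun v => ?_
    obtain ⟨⟨x, y⟩, rfl⟩ := e.surjective v
    rw [LinearMap.zero_apply, heq, sum_oTrans, LinearEquiv.map_eq_zero_iff]
    refine Prod.ext ?_ ?_
    · rw [show (x, y) = (x, (0 : W)) + ((0 : U), y) by simp, map_add, Prod.fst_add]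
      have h1 : (∑ i ∈ Finset.range N, (en gU.1) ^ i) x = 0 := by
        have hz : (∑ i ∈ Finset.range (p ^ C), (en gU.1) ^ i) x = 0 := by
          rw [geom_prime_pow p, nil_pow (en gU.1) hnil (by omega), LinearMap.zero_apply]
        have hrep : ∀ l, (∑ i ∈ Finset.range (p ^ C * l), (en gU.1) ^ i) x = 0 := by
          intro l
          induction l with
          | zero => simp
          | succ l ih =>
            rw [Nat.mul_succ, Finset.sum_range_add, LinearMap.add_apply, ih, zero_add, LinearMap.sum_apply]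
            rw [LinearMap.sum_apply] at hz
            refine Eq.trans (Finset.sum_congr rfl fun i _ => ?_) hz
            rw [pow_add, pow_mul, (pow_eq_one_iff_en gU _).1 hUC, one_pow, one_mul]
        rw [hk]; exact hrep k
      have e1 := inter_sum (LinearMap.fst F U W) (a := en (oProd (Q.comp U.subtype) (Q.comp W.subtype) (gU, gW)).1)
        (b := en gU.1) (fun _ => rfl) N
      have a1 := e1 (x, (0 : W))
      have a2 := e1 ((0 : U), y)
      simp only [LinearMap.fst_apply, map_zero] at a1 a2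
      rw [a1, a2, h1, add_zero]
      rfl
    · have h1 : (∑ i ∈ Finset.range N, (en gW.1) ^ i) y = 0 := by
        refine hfix _ (sub_eq_zero.1 ?_)
        have h := LinearMap.congr_fun (mul_geom_sum (en gW.1) N) y
        rw [(pow_eq_one_iff_en gW _).1 hWN, sub_self, LinearMap.zero_apply, Module.End.mul_apply,
          LinearMap.sub_apply, Module.End.one_apply] at h
        exact h
      have e1 := inter_sum (LinearMap.snd F U W) (a := en (oProd (Q.comp U.subtype) (Q.comp W.subtype) (gU, gW)).1)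
        (b := en gW.1) (fun _ => rfl) N (x, y)
      simp only [LinearMap.snd_apply] at e1
      rw [e1, h1]
      rfl

end Upper

section Lower

variable {a b : F} (hab : ∀ z₁ z₂ : F, z₁ ^ 2 + a * z₁ * z₂ + b * z₂ ^ 2 = 0 → z₁ = 0 ∧ z₂ = 0)
  {Q : QuadraticForm F (MI 3 → F)} (hQ : ⇑Q = Cfsg.quadFormMinus 3 F a b)

include hab hQ

theorem hOrd_minus {V : Type v} [AddCommGroup V] [Module F V] [FiniteDimensional F V]
    {Q' : QuadraticForm F V} (h : Sgn Q' 4 false) {N : ℕ} (hN : HOrd Q' N) : HOrd Q N := by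
  obtain ⟨L, hL⟩ := minus_of_sgn hab (by norm_num) h
  exact hOrd_trans L (fun v => by rw [hQ]; exact hL v) hN

/-- Elements without unipotent complement. -/
theorem hOrd_zero {V : Type v} [AddCommGroup V] [Module F V] [FiniteDimensional F V]
    {Q' : QuadraticForm F V} (h : Sgn Q' 4 false) (g : oGroup Q') (hg : g ∈ commutator (oGroup Q')) :
    HOrd Q (orderOf g) :=
  hOrd_minus hab hQ h ⟨g, hg, 0, fun _ hj _ => orderOf_dvd_of_pow_eq_one hj⟩

/-- An element and a unipotent block. -/
theorem hOrd_build (h2 : (2 : F) ≠ 0) {V : Type v} [AddCommGroup V] [Module F V] [FiniteDimensional F V]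
    {QW : QuadraticForm F V} (hW : (QuadraticMap.polarBilin QW).Nondegenerate) {r m : ℕ}
    (hr : Module.finrank F V = 2 * r) (hm : 1 ≤ m) (hrm : r + m = 4) (g : oGroup QW)
    (hd : Spinor.dick g = 1) (hs : Spinor.spin g = 1) :
    HOrd Q (Nat.lcm (orderOf g) (p ^ Nat.clog p (2 * m + 1))) := by
  classical
  haveI := finite_equiv (F := F) (V := V)
  set t : Bool := if 1 ≤ r then decide (HasHalf (F := F) ⇑QW r) else true with htdef
  obtain ⟨Qu, u, hQu, ⟨M, hM⟩, hne⟩ := exists_reg_even p hab h2 hm (!t)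
  obtain ⟨c1, c2⟩ := odd_inv h2 hQu.1 ((odd_p p h2).pow (n := M)) hM
  have hmem := oProd_mem h2 hW hQu.1 (a := g) (b := u) (by rw [hd, c1, one_mul]) (by rw [hs, c2, one_mul])
  have hS : Sgn (QW.prod Qu) 4 false := by
    rcases Nat.eq_zero_or_pos r with hr0 | hr0
    · subst hr0
      rw [zero_add] at hrm
      subst hrm
      have : Subsingleton V := Module.finrank_zero_iff.1 hr
      rw [htdef, if_neg (by norm_num)] at hQu
      let L : (Fin (2 * 4) → F) ≃ₗ[F] V × (Fin (2 * 4) → F) :=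
        { toFun := fun x => (0, x)
          invFun := fun x => x.2
          map_add' := fun x y => by simp
          map_smul' := fun c x => by simp
          left_inv := fun x => rfl
          right_inv := fun x => Prod.ext (Subsingleton.elim _ _) rfl }
      refine ⟨prod_nondeg hW hQu.1, by rw [Module.finrank_prod, hr, hQu.2.1], ?_⟩
      exact (hasHalf_congr L (Q := Qu) (fun v => by
        rw [QuadraticMap.prod_apply]
        show QW 0 + Qu v = Qu v
        rw [QuadraticMap.map_zero, zero_add])).symm.trans hQu.2.2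
    · have ht : Sgn QW r t := ⟨hW, hr, by rw [htdef, if_pos (by omega)]; simp⟩
      have := sgn_prod hab hr0 hm ht hQu
      rw [hrm, show (t == !t) = false by cases t <;> rfl] at this
      exact this
  obtain ⟨v0, hv0⟩ : ∃ v0, ((en u.1 - 1) ^ (2 * m - 2)) v0 ≠ 0 := by
    by_contra h
    push Not at h
    exact hne (LinearMap.ext h)
  refine hOrd_minus hab hQ hS ⟨_, hmem, (0, v0), fun j hj hsum => ?_⟩
  rw [← map_pow, ← map_one (oProd QW Qu)] at hj
  have hj' := oProd_injective _ _ hj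
  rw [Prod.pow_mk, Prod.mk_eq_one] at hj'
  refine Nat.lcm_dvd (orderOf_dvd_of_pow_eq_one hj'.1) ?_
  set C := Nat.clog p (2 * m + 1) with hC
  have hC1 : 1 ≤ C := Nat.clog_pos hp.out.one_lt (by omega)
  obtain ⟨i, -, hi⟩ := (Nat.dvd_prime_pow hp.out).1 (orderOf_dvd_of_pow_eq_one hM)
  have hij : p ^ i ∣ j := hi ▸ orderOf_dvd_of_pow_eq_one hj'.2
  by_cases hiC : C ≤ i
  · exact (pow_dvd_pow p hiC).trans hij
  have hsm : ∀ c, u ^ p ^ c = 1 → (en u.1 - 1) ^ p ^ c = 0 := fun c h => by
    haveI : Nontrivial (Fin (2 * m) → F) :=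
      Module.nontrivial_of_finrank_pos (R := F) (by rw [Module.finrank_fin_fun]; omega)
    exact (pow_prime_pow_eq_one_iff p _ _).1 ((pow_eq_one_iff_en u _).1 h)
  have hu1 : u ^ p ^ (C - 1) = 1 := orderOf_dvd_iff_pow_eq_one.1 (hi ▸ pow_dvd_pow p (by omega))
  have hlt : p ^ (C - 1) < 2 * m + 1 := Nat.pow_pred_clog_lt_self hp.out.one_lt (by omega)
  have hge : 2 * m - 1 ≤ p ^ (C - 1) := by
    by_contra h
    exact hne (pow_eq_zero_of_le (by omega) (hsm _ hu1))
  have hodd : Odd (p ^ (C - 1)) := (odd_p p h2).pow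
  have heq : p ^ (C - 1) = 2 * m - 1 := by
    obtain ⟨z, hz⟩ := hodd
    omega
  have hpj : p ^ (C - 1) ∣ j := by
    refine (pow_dvd_pow p ?_).trans hij
    by_contra h
    rcases Nat.lt_or_ge C 2 with hC2 | hC2
    · omega
    · have hu2 : u ^ p ^ (C - 2) = 1 := orderOf_dvd_iff_pow_eq_one.1 (hi ▸ pow_dvd_pow p (by omega))
      refine hne (pow_eq_zero_of_le ?_ (hsm _ hu2))
      have : p ^ (C - 2) * 3 ≤ p ^ (C - 1) := by
        rw [show C - 1 = C - 2 + 1 by omega, pow_succ]
        refine Nat.mul_le_mul_left _ ?_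
        have := hp.out.two_le
        obtain ⟨z, hz⟩ := odd_p p h2
        omega
      omega
  obtain ⟨k, hk⟩ := hpj
  rw [show C = C - 1 + 1 by omega, pow_succ, hk]
  refine Nat.mul_dvd_mul_left _ ?_
  have h0 : (∑ i ∈ Finset.range j, (en u.1) ^ i) v0 = 0 := by
    have := congrArg Prod.snd hsum
    rw [sum_oProd_snd'] at this
    exact this
  have hrep : ∀ l, ∑ i ∈ Finset.range (p ^ (C - 1) * l), (en u.1) ^ i =
      (l : F) • ∑ i ∈ Finset.range (p ^ (C - 1)), (en u.1) ^ i := by
    intro l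
    induction l with
    | zero => simp
    | succ l ih =>
      rw [Nat.mul_succ, Finset.sum_range_add, ih, Nat.cast_succ, add_smul, one_smul]
      congr 1
      exact Finset.sum_congr rfl fun i _ => by
        rw [pow_add, pow_mul, (pow_eq_one_iff_en u _).1 hu1, one_pow, one_mul]
  rw [hk, hrep, geom_prime_pow p, LinearMap.smul_apply, heq, show 2 * m - 1 - 1 = 2 * m - 2 by omega,
    smul_eq_zero] at h0
  exact (CharP.cast_eq_zero_iff F p k).1 (h0.resolve_right hv0)
where
  sum_oProd_snd' {V : Type v} [AddCommGroup V] [Module F V] {W : Type u} [AddCommGroup W] [Module F W]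
      {Q₁ : QuadraticForm F V} {Q₂ : QuadraticForm F W} {g : oGroup Q₁} {h : oGroup Q₂} {o : ℕ} {v : W} :
      ((∑ i ∈ Finset.range o, (en (oProd Q₁ Q₂ (g, h)).1) ^ i) (0, v)).2 =
        (∑ i ∈ Finset.range o, (en h.1) ^ i) v :=
    inter_sum (LinearMap.snd F V W) (fun _ => rfl) o (0, v)

end Lower

end Cfsg.Agent.SpinNine
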