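import Cfsg.Agent.Lib.SpinNine.Shape
import Cfsg.Agent.Lib.SpEightEven.Reduce

/-!
Every element order in dimension nine occurs in the split extension in dimension eight.
-/

set_option autoImplicit false
set_option linter.unusedSectionVars false
set_option maxHeartbeats 1000000

namespace Cfsg.Agent.SpinNine

open FormsLib FormTorus OrthClasses SpEightEven

universe u v

variable {F : Type u} [Field F] [Fintype F]

theorem lt_torE : ∀ {L : List (ℕ × Bool)}, (∀ x ∈ L, 1 ≤ x.1) → 2 ≤ L.length → ∀ x ∈ L, x.1 < torE L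
  | [], _, h, _, _ => by simp at h
  | [_], _, h, _, _ => by simp at h
  | y :: z :: L, hp, _, x, hx => by
    have hy := hp y List.mem_cons_self
    have hz := hp z (List.mem_cons_of_mem _ List.mem_cons_self)
    rcases List.mem_cons.1 hx with rfl | hx
    · show x.1 < x.1 + (z.1 + torE L); omega
    · have := le_torE hx
      show x.1 < y.1 + torE (z :: L); omega

theorem sq_four (q : ℕ) : (q ^ 2 - 1) * (q ^ 2 + 1) = q ^ 4 - 1 := by
  rw [mul_comm, ← Nat.sq_sub_sq, one_pow, ← pow_mul]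

theorem lcm_two_half {x y : ℕ} (hxy : y = x + 2) (hx : Even x) : Nat.lcm x y * 2 = x * y := by
  subst hxy
  have hg : Nat.gcd x (x + 2) = 2 := by
    rw [Nat.gcd_self_add_right]
    exact Nat.gcd_eq_right hx.two_dvd
  have := Nat.gcd_mul_lcm x (x + 2)
  rw [hg] at this
  linarith

variable (p : ℕ) [hp : Fact p.Prime] [hchar : CharP F p] (h2 : (2 : F) ≠ 0)
  {a b : F} (hab : ∀ z₁ z₂ : F, z₁ ^ 2 + a * z₁ * z₂ + b * z₂ ^ 2 = 0 → z₁ = 0 ∧ z₂ = 0)
  {Q : QuadraticForm F (MI 3 → F)} (hQ : ⇑Q = Cfsg.quadFormMinus 3 F a b)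

include h2 hab hQ hp hchar

theorem gen {e : ℕ} (he : 1 ≤ e) : ∀ s : Bool, Gen F s e
  | true => gen_plus h2 he
  | false => gen_minus hab h2 he

theorem two_gens_zero {e e' : ℕ} {s t : Bool} (he : 1 ≤ e) (he' : 1 ≤ e') (hee : e + e' = 4)
    (hst : (s == t) = false) :
    HOrd Q (Nat.lcm (if s then Fintype.card F ^ e - 1 else Fintype.card F ^ e + 1)
      (if t then Fintype.card F ^ e' - 1 else Fintype.card F ^ e' + 1)) := by
  obtain ⟨Q₁, g, hQ₁, d1, s1, o1⟩ := gen p h2 hab hQ he s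
  obtain ⟨Q₂, g', hQ₂, d2, s2, o2⟩ := gen p h2 hab hQ he' t
  have hmem := oProd_mem h2 hQ₁.1 hQ₂.1 (a := g) (b := g') (by rw [d1, d2, one_mul]) (by rw [s1, s2]; rfl)
  have hS := sgn_prod hab he he' hQ₁ hQ₂
  rw [hee, hst] at hS
  refine hOrd_dvd (hOrd_zero hab hQ hS _ hmem) ?_
  rw [orderOf_oProd]
  exact Nat.lcm_dvd (o1.trans (Nat.dvd_lcm_left _ _)) (o2.trans (Nat.dvd_lcm_right _ _))

theorem two_gens {e e' m : ℕ} (s t : Bool) (he : 1 ≤ e) (he' : 1 ≤ e') (hm : 1 ≤ m)
    (hee : e + e' + m = 4) :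
    HOrd Q (Nat.lcm (if s then Fintype.card F ^ e - 1 else Fintype.card F ^ e + 1)
      (if t then Fintype.card F ^ e' - 1 else Fintype.card F ^ e' + 1) *
        p ^ Nat.clog p (2 * m + 1)) := by
  obtain ⟨Q₁, g, hQ₁, d1, s1, o1⟩ := gen p h2 hab hQ he s
  obtain ⟨Q₂, g', hQ₂, d2, s2, o2⟩ := gen p h2 hab hQ he' t
  obtain ⟨i1, i2⟩ := inv_oProd h2 hQ₁.1 hQ₂.1 g g'
  have h := hOrd_build p hab hQ h2 (OrthClasses.prod_nondeg hQ₁.1 hQ₂.1) (r := e + e') (m := m)
    (by rw [Module.finrank_prod, hQ₁.2.1, hQ₂.2.1]; ring) hm hee (oProd Q₁ Q₂ (g, g'))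
    (by rw [i1, d1, d2, one_mul]) (by rw [i2, s1, s2]; rfl)
  refine hOrd_dvd h ?_
  rw [orderOf_oProd]
  refine Nat.Coprime.mul_dvd_of_dvd_of_dvd ?_ ?_ (Nat.dvd_lcm_right _ _)
  · refine Nat.Coprime.pow_right _ (Nat.Coprime.symm ((hp.out.coprime_iff_not_dvd).2 fun hd => ?_))
    have hq : (Fintype.card F : F) = 0 := Nat.cast_card_eq_zero F
    have key : ∀ (u : Bool) (j : ℕ), 1 ≤ j →
        ¬ p ∣ (if u then Fintype.card F ^ j - 1 else Fintype.card F ^ j + 1) := by
      intro u j hj hdvd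
      have h0 := (CharP.cast_eq_zero_iff F p _).2 hdvd
      have hpos : 1 ≤ Fintype.card F ^ j := Nat.one_le_pow _ _ Fintype.card_pos
      cases u
      · rw [if_neg (by simp), Nat.cast_add, Nat.cast_pow, hq, zero_pow (by omega), zero_add, Nat.cast_one] at h0
        exact one_ne_zero h0
      · rw [if_pos rfl, Nat.cast_sub hpos, Nat.cast_pow, hq, zero_pow (by omega), zero_sub, Nat.cast_one,
          neg_eq_zero] at h0
        exact one_ne_zero h0
    rcases (Nat.Prime.dvd_mul hp.out).1 (hd.trans (Nat.lcm_dvd_mul _ _)) with h | h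
    · exact key s e he h
    · exact key t e' he' h
  · exact (Nat.lcm_dvd (o1.trans (Nat.dvd_lcm_left _ _)) (o2.trans (Nat.dvd_lcm_right _ _))).trans
      (Nat.dvd_lcm_left _ _)

theorem target_half : HOrd Q ((Fintype.card F ^ 4 - 1) / 2) := by
  have h := two_gens_zero p h2 hab hQ (e := 2) (e' := 2) (s := true) (t := false) (by norm_num) (by norm_num)
    rfl rfl
  rw [if_pos rfl, if_neg (by simp)] at h
  refine hOrd_dvd h (dvd_of_eq ?_)
  have he : Even (Fintype.card F ^ 2 - 1) := Nat.Odd.sub_odd ((odd_card h2).pow) odd_one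
  have hpos : 1 ≤ Fintype.card F ^ 2 := Nat.one_le_pow _ _ Fintype.card_pos
  rw [← sq_four, ← lcm_two_half (by omega) he, Nat.mul_div_cancel _ two_pos]

theorem target_two : HOrd Q (2 * p ^ Nat.clog p 7) := by
  obtain ⟨s, hs⟩ : ∃ s : Bool, 4 ∣ (if s then Fintype.card F ^ 1 - 1 else Fintype.card F ^ 1 + 1) := by
    obtain ⟨z, hz⟩ := odd_card (F := F) h2
    rcases Nat.even_or_odd z with ⟨w, hw⟩ | ⟨w, hw⟩
    · exact ⟨true, w, by simp; omega⟩
    · exact ⟨false, w + 1, by simp; omega⟩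
  obtain ⟨Q₁, g, hQ₁, -, -, o1⟩ := gen p h2 hab hQ le_rfl s
  obtain ⟨d1, s1⟩ := (mem_commutator_iff' h2 hQ₁.1 _).1 (PrimeGraphBC.sq_mem_commutator h2 hQ₁.1 g)
  haveI := finite_equiv (F := F) (V := Fin (2 * 1) → F)
  have h := hOrd_build p hab hQ h2 hQ₁.1 (r := 1) (m := 3) hQ₁.2.1 (by norm_num) rfl (g * g) d1 s1
  refine hOrd_dvd h (Nat.Coprime.mul_dvd_of_dvd_of_dvd ?_ ?_ (Nat.dvd_lcm_right _ _))
  · exact Nat.Coprime.pow_right _ (Nat.coprime_two_left.2 (odd_p p h2))
  · refine dvd_trans ?_ (Nat.dvd_lcm_left _ _)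
    have h4 : 4 ∣ orderOf g := hs.trans o1
    rw [← pow_two, orderOf_pow_of_dvd two_ne_zero (dvd_trans (by norm_num) h4)]
    obtain ⟨c, hc⟩ := h4
    rw [hc]
    exact ⟨c, by omega⟩

/-- The orders with at least two tori. -/
theorem target_long {L : List (ℕ × Bool)} {d : ℕ} (hL : ∀ x ∈ L, 1 ≤ x.1) (hlen : 2 ≤ L.length)
    (hb : torE L + d ≤ 4) : HOrd Q (torL (Fintype.card F) L * p ^ Nat.clog p (2 * d + 1)) := by
  set q := Fintype.card F with hq
  have hlt := lt_torE hL hlen
  obtain ⟨x₀, hx₀⟩ := List.exists_mem_of_ne_nil L (fun h => by rw [h] at hlen; simp at hlen)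
  have hd : d ≤ 2 := by have := hlt x₀ hx₀; have := hL x₀ hx₀; omega
  have hhalf : ∀ x ∈ L, x.1 ≤ 2 → torX q x ∣ (q ^ 4 - 1) / 2 := by
    intro x hx hle
    have he : Even (q ^ 2 - 1) := Nat.Odd.sub_odd ((odd_card h2).pow) odd_one
    have he' : Even (q ^ 2 + 1) := ((odd_card h2).pow).add_one
    have h1 : q ^ 2 - 1 ∣ (q ^ 4 - 1) / 2 := by
      rw [← sq_four, Nat.mul_div_assoc _ he'.two_dvd]; exact dvd_mul_right _ _
    have h1' : q ^ 2 + 1 ∣ (q ^ 4 - 1) / 2 := by
      rw [← sq_four, mul_comm, Nat.mul_div_assoc _ he.two_dvd]; exact dvd_mul_right _ _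
    obtain ⟨e, s⟩ := x
    have := hL _ hx
    simp only at this hle
    obtain rfl | rfl : e = 1 ∨ e = 2 := by omega
    · cases s
      · exact (sub_one_dvd q (one_dvd 2)).trans h1
      · exact (add_one_dvd q 1).trans h1
    · cases s
      · exact h1
      · exact h1'
  interval_cases d
  · rw [show 2 * 0 + 1 = 1 from rfl, Nat.clog_one_right, pow_zero, mul_one]
    by_cases h3 : ∃ x ∈ L, x.1 = 3
    · obtain ⟨⟨e, s⟩, hx, rfl⟩ := h3
      have e1 : q - 1 ∣ q ^ 3 - 1 := by simpa using sub_one_dvd q (one_dvd 3)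
      cases s
      · have t := two_gens_zero p h2 hab hQ (e := 3) (e' := 1) (s := true) (t := false) (by norm_num) le_rfl rfl rfl
        rw [if_pos rfl, if_neg (by simp), pow_one] at t
        refine hOrd_dvd t ?_
        rcases pair_dvd hL hx (by simpa using hb) dvd_rfl with k | k | k
        · exact k.trans (Nat.dvd_lcm_left _ _)
        · exact k
        · exact k.trans (Nat.lcm_dvd (Nat.dvd_lcm_left _ _) (e1.trans (Nat.dvd_lcm_left _ _)))
      · have t := two_gens_zero p h2 hab hQ (e := 3) (e' := 1) (s := false) (t := true) (by norm_num) le_rfl rfl rfl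
        rw [if_neg (by simp), if_pos rfl, pow_one] at t
        refine hOrd_dvd t ?_
        rcases pair_dvd hL hx (by simpa using hb) dvd_rfl with k | k | k
        · exact k.trans (Nat.dvd_lcm_left _ _)
        · exact k.trans (Nat.lcm_dvd (Nat.dvd_lcm_left _ _) ((add_one_dvd_three q).trans (Nat.dvd_lcm_left _ _)))
        · exact k
    · refine hOrd_dvd (target_half p h2 hab hQ) (torL_dvd fun x hx => hhalf x hx ?_)
      push Not at h3
      have := h3 x hx
      have := hlt x hx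
      omega
  · rw [show 2 * 1 + 1 = 3 from rfl]
    by_cases h2' : ∃ x ∈ L, x = (2, true)
    · obtain ⟨x, hx, rfl⟩ := h2'
      rcases pair_dvd hL hx (show torE L ≤ 2 + 1 by omega) (Nat.dvd_lcm_left (q ^ 2 + 1) (q + 1)) with k | k | k
      · have t := two_gens p h2 hab hQ (e := 2) (e' := 1) (m := 1) false false (by norm_num) le_rfl le_rfl rfl
        rw [if_neg (by simp), if_neg (by simp), pow_one] at t
        exact hOrd_dvd t (Nat.mul_dvd_mul_right k _)
      · have t := two_gens p h2 hab hQ (e := 2) (e' := 1) (m := 1) false false (by norm_num) le_rfl le_rfl rfl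
        rw [if_neg (by simp), if_neg (by simp), pow_one] at t
        exact hOrd_dvd t (Nat.mul_dvd_mul_right k _)
      · have t := two_gens p h2 hab hQ (e := 2) (e' := 1) (m := 1) false true (by norm_num) le_rfl le_rfl rfl
        rw [if_neg (by simp), if_pos rfl, pow_one] at t
        exact hOrd_dvd t (Nat.mul_dvd_mul_right k _)
    · have t := two_gens p h2 hab hQ (e := 2) (e' := 1) (m := 1) true false (by norm_num) le_rfl le_rfl rfl
      rw [if_pos rfl, if_neg (by simp)] at t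
      refine hOrd_dvd t (Nat.mul_dvd_mul_right (dvd_trans (torL_dvd fun x hx => ?_) (Nat.dvd_lcm_left _ _)) _)
      push Not at h2'
      have := h2' x hx
      have := hlt x hx
      have := hL x hx
      obtain ⟨e, s⟩ := x
      simp only at *
      obtain rfl | rfl : e = 1 ∨ e = 2 := by omega
      · cases s
        · exact sub_one_dvd q (one_dvd 2)
        · exact add_one_dvd q 1
      · cases s
        · exact dvd_rfl
        · exact absurd rfl ‹(2, true) ≠ (2, true)›
  · have t := two_gens p h2 hab hQ (e := 1) (e' := 1) (m := 2) true false le_rfl le_rfl (by norm_num) rfl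
    rw [if_pos rfl, if_neg (by simp)] at t
    refine hOrd_dvd t (Nat.mul_dvd_mul_right (torL_dvd fun x hx => ?_) _)
    have := hlt x hx
    have := hL x hx
    obtain ⟨e, s⟩ := x
    simp only at *
    obtain rfl : e = 1 := by omega
    cases s
    · exact Nat.dvd_lcm_left _ _
    · exact Nat.dvd_lcm_right _ _

/-- The critical case: no fixed vectors on a space of plus type. -/
theorem plus_case {V : Type v} [AddCommGroup V] [Module F V] [FiniteDimensional F V]
    {QW : QuadraticForm F V} (hW : Sgn QW 4 true) (g : oGroup QW) (hfix : ∀ v, g.1 v = v → v = 0)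
    (hs : Spinor.spin g = 1) : HOrd Q (orderOf g) := by
  classical
  haveI := finite_equiv (F := F) (V := V)
  haveI : Finite V := Module.finite_of_finite F
  have hfin : Module.finrank F V = 8 := hW.2.1
  haveI : Nontrivial V := Module.nontrivial_of_finrank_pos (R := F) (by omega)
  have hbound : ∀ X, en g.1 ^ X = 1 → HOrd Q X → HOrd Q (orderOf g) := fun X h1 h2' =>
    hOrd_dvd h2' (orderOf_dvd_of_pow_eq_one ((pow_eq_one_iff_en g X).2 h1))
  rcases cases_one p h2 hW.1 g hfix with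
    ⟨W₁, W₂, hc, hb1, hb2, ho, hi1, hi2, hT⟩ | ⟨-, hpw⟩ | ⟨hodd, -⟩ | ⟨e, k, sgn, he, hk, hek, hpw, hfree⟩
  · obtain ⟨h₁, he₁, hn₁, hf₁⟩ := exists_part p hW.1 g hfix hc ho hi1
    obtain ⟨h₂, he₂, hn₂, hf₂⟩ := exists_part p hW.1 g hfix hc.symm
      (fun x hx y hy => by rw [QuadraticMap.polar_comm]; exact ho y hy x hx) hi2
    have hsum := Submodule.finrank_add_eq_of_isCompl hc
    have hp1 : 0 < Module.finrank F W₁ := by rw [pos_iff_ne_zero, Ne, Submodule.finrank_eq_zero]; exact hb1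
    have hp2 : 0 < Module.finrank F W₂ := by rw [pos_iff_ne_zero, Ne, Submodule.finrank_eq_zero]; exact hb2
    obtain ⟨E₁, O₁⟩ := shape_rec p h2 _ _ hn₁ h₁ hf₁ rfl hp1
    obtain ⟨E₂, O₂⟩ := shape_rec p h2 _ _ hn₂ h₂ hf₂ rfl hp2
    rcases Nat.even_or_odd (Module.finrank F W₁) with e1 | o1
    · have e2 : Even (Module.finrank F W₂) := by
        obtain ⟨r, hr⟩ := e1
        exact ⟨4 - r, by omega⟩
      obtain ⟨L, d, hL, hlen, hb, hp'⟩ := sh_combine p g hc h₁ he₁ h₂ he₂ (E₁ e1) (E₂ e2)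
      refine hbound _ hp' (target_long p h2 hab hQ hL hlen ?_)
      obtain ⟨r1, hr1⟩ := e1
      obtain ⟨r2, hr2⟩ := e2
      omega
    · have o2 : Odd (Module.finrank F W₂) := by
        obtain ⟨r, hr⟩ := o1
        exact ⟨3 - r, by omega⟩
      exact (not_both_odd p g hc hT h₁ he₁ hn₁ h₂ he₂ (O₁ o1) (O₂ o2)).elim
  · rw [hfin] at hpw
    exact hbound _ hpw (target_two p h2 hab hQ)
  · exact absurd hodd (by rw [hfin]; decide)
  · have he4 : e * k = 4 := by omega
    have hcases : (e = 4 ∧ k = 1) ∨ (e = 2 ∧ k = 2) ∨ (e = 1 ∧ k = 4) := by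
      have : e ≤ 4 := Nat.le_of_dvd (by norm_num) ⟨k, he4.symm⟩
      interval_cases e <;> omega
    rcases hcases with ⟨rfl, rfl⟩ | ⟨rfl, rfl⟩ | ⟨rfl, rfl⟩
    · rw [Nat.clog_one_right, pow_zero, mul_one] at hpw
      set N := orderOf g with hN
      have hNX : N ∣ torX (Fintype.card F) (4, sgn) :=
        orderOf_dvd_of_pow_eq_one ((pow_eq_one_iff_en g _).2 hpw)
      set q := Fintype.card F with hq
      have hq2 : 2 ≤ q := Fintype.one_lt_card
      have hq4 : 2 ≤ q ^ 4 := hq2.trans (Nat.le_self_pow (by norm_num) q)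
      have hev : Even (q ^ 4 - 1) := Nat.Odd.sub_odd ((odd_card h2).pow) odd_one
      have h2half : 2 ∣ (q ^ 4 - 1) / 2 := by
        obtain ⟨w, hw⟩ := ((odd_card h2).pow (n := 2)).add_one
        obtain ⟨z, hz⟩ : Even (q ^ 2 - 1) := Nat.Odd.sub_odd ((odd_card h2).pow) odd_one
        exact ⟨z * w, by rw [← sq_four, hz, hw, show (z + z) * (w + w) = 2 * (2 * (z * w)) by ring, Nat.mul_div_cancel_left _ two_pos]⟩
      by_cases hg1 : g = 1
      · rw [hN, hg1, orderOf_one]
        exact hOrd_dvd (target_half p h2 hab hQ) (one_dvd _)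
      obtain ⟨kk, hcard, -⟩ := free_sphere (hfree rfl) hg1
      obtain ⟨L, hL⟩ := plus_of_sgn hab (by norm_num) hW
      have hcount : q * (N * kk) + q ^ 4 = q ^ 8 := by
        have h := FormCount.card_plus (F := F) 4 (1 : F)
        have e1 : Nat.card {x : V // QW x = 1} = Nat.card {v : PI 4 → F // Cfsg.quadFormPlus 4 F v = 1} :=
          Nat.card_congr (L.toEquiv.subtypeEquiv fun v => by
            show QW v = 1 ↔ Cfsg.quadFormPlus 4 F (L v) = 1
            rw [hL])
        rw [if_neg one_ne_zero, ← e1, hcard, ← hN] at h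
        push_cast at h
        exact_mod_cast (show (q : ℤ) * ((N : ℤ) * kk) + (q : ℤ) ^ 4 = (q : ℤ) ^ 8 by linear_combination h)
      have hmul : q * (N * kk) = q ^ 4 * (q ^ 4 - 1) := by
        rw [Nat.mul_sub, mul_one, ← pow_add, show 4 + 4 = 8 from rfl]; omega
      cases sgn with
      | true =>
        refine hOrd_dvd (target_half p h2 hab hQ) (dvd_trans ?_ h2half)
        have hNX' : N ∣ q ^ 4 + 1 := hNX
        have hco : Nat.Coprime N (q ^ 4) :=
          Nat.Coprime.coprime_dvd_left hNX' (Nat.coprime_self_add_left.2 (Nat.coprime_one_left _))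
        have hd1 : N ∣ q ^ 4 - 1 := hco.dvd_of_dvd_mul_left ⟨q * kk, by rw [← hmul]; ring⟩
        have h := Nat.dvd_sub hNX' hd1
        rwa [show q ^ 4 + 1 - (q ^ 4 - 1) = 2 by omega] at h
      | false =>
        have hNX' : N ∣ q ^ 4 - 1 := hNX
        obtain ⟨c, hc⟩ := hNX'
        rcases Nat.even_or_odd c with ⟨c', hc'⟩ | hco
        · refine hOrd_dvd (target_half p h2 hab hQ) ⟨c', ?_⟩
          rw [hc, hc', show N * (c' + c') = 2 * (N * c') by ring, Nat.mul_div_cancel_left _ two_pos]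
        · exfalso
          have hNpos : 0 < N := orderOf_pos g
          have hkk : kk = q ^ 3 * c := by
            refine Nat.eq_of_mul_eq_mul_left (show 0 < q * N by positivity) ?_
            rw [mul_assoc, hmul, hc]; ring
          have hNe : Even N := by
            by_contra hno
            exact Nat.not_even_iff_odd.2 ((Nat.not_even_iff_odd.1 hno).mul hco) (hc ▸ hev)
          have hinv := free_inv h2 (hfree rfl) hNe (by rw [hfin]; decide)
            (k := kk) (hkk ▸ ((odd_card h2).pow).mul hco) hcard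
          rw [hs] at hinv
          exact absurd hinv.2 (by decide)
    · refine hbound _ hpw ?_
      have hc2 : Nat.clog p 2 ≤ Nat.clog p (2 * 1 + 1) := Nat.clog_mono_right p (by norm_num)
      cases sgn
      · have t := two_gens p h2 hab hQ (e := 2) (e' := 1) (m := 1) true false (by norm_num) le_rfl le_rfl rfl
        rw [if_pos rfl] at t
        exact hOrd_dvd t (Nat.mul_dvd_mul (Nat.dvd_lcm_left _ _) (pow_dvd_pow p hc2))
      · have t := two_gens p h2 hab hQ (e := 2) (e' := 1) (m := 1) false false (by norm_num) le_rfl le_rfl rfl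
        rw [if_neg (by simp)] at t
        exact hOrd_dvd t (Nat.mul_dvd_mul (Nat.dvd_lcm_left _ _) (pow_dvd_pow p hc2))
    · refine hbound _ hpw ?_
      have hc2 : Nat.clog p 4 ≤ Nat.clog p (2 * 2 + 1) := Nat.clog_mono_right p (by norm_num)
      have t := two_gens p h2 hab hQ (e := 1) (e' := 1) (m := 2) true false le_rfl le_rfl (by norm_num) rfl
      rw [if_pos rfl, if_neg (by simp)] at t
      refine hOrd_dvd t (Nat.mul_dvd_mul ?_ (pow_dvd_pow p hc2))
      cases sgn
      · exact Nat.dvd_lcm_left _ _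
      · exact Nat.dvd_lcm_right _ _

/-- Elements in dimension nine are dominated in dimension eight. -/
theorem eight_of_nine {V : Type u} [AddCommGroup V] [Module F V] [FiniteDimensional F V]
    {Q9 : QuadraticForm F V} (hQ9 : (QuadraticMap.polarBilin Q9).Nondegenerate)
    (hd : Module.finrank F V = 9) (g : oGroup Q9) (hg : g ∈ commutator (oGroup Q9)) :
    HOrd Q (orderOf g) := by
  classical
  obtain ⟨U, W, e, he, gU, gW, hU, hW, heq, hnil, hfix, d1, d2, ⟨r, hr⟩, hsum⟩ := split_inv p h2 hQ9 g hg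
  set m := 4 - r with hm
  have hUd : Module.finrank F U = 2 * m + 1 := by omega
  have hUC : gU ^ p ^ Nat.clog p (2 * m + 1) = 1 :=
    unip_pow p gU hnil (hUd.trans_le (Nat.le_pow_clog hp.out.one_lt _))
  have hord : orderOf g ∣ Nat.lcm (orderOf gW) (p ^ Nat.clog p (2 * m + 1)) := by
    rw [heq, MulEquiv.orderOf_eq, orderOf_oProd]
    exact Nat.lcm_dvd ((orderOf_dvd_of_pow_eq_one hUC).trans (Nat.dvd_lcm_right _ _)) (Nat.dvd_lcm_left _ _)
  rcases Nat.eq_zero_or_pos m with hm0 | hm0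
  · have hW8 : Module.finrank F W = 2 * 4 := by omega
    refine hOrd_dvd ?_ hord
    rw [hm0, show 2 * 0 + 1 = 1 from rfl, Nat.clog_one_right, pow_zero, Nat.lcm_one_right]
    by_cases hh : HasHalf (F := F) ⇑(Q9.comp W.subtype) 4
    · exact plus_case p h2 hab hQ ⟨hW, hW8, iff_of_true hh rfl⟩ gW hfix d2
    · exact hOrd_zero hab hQ ⟨hW, hW8, iff_of_false hh (by simp)⟩ gW
        ((mem_commutator_iff' h2 hW gW).2 ⟨d1, d2⟩)
  · exact hOrd_dvd (hOrd_build p hab hQ h2 hW (r := r) (by omega) hm0 (by omega) gW d1 d2) hord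

end Cfsg.Agent.SpinNine
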