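import Cfsg.Agent.Lib.SpEightEven.Blocks
import Cfsg.Agent.Lib.Spinor.Decomp
import Cfsg.Agent.Lib.Spinor.Products
import Cfsg.Agent.Lib.Recog.SpectrumBC
import Cfsg.Agent.Lib.PrimeGraphBC.Base

/-!
Parity and spinor norm of orthogonal sums, and of isometries acting freely.
-/

set_option autoImplicit false
set_option linter.unusedSectionVars false

namespace Cfsg.Agent.SpinNine

open FormsLib FormTorus SpEightEven

universe u v w

variable {F : Type u} [Field F] [Fintype F]
  {V : Type v} [AddCommGroup V] [Module F V] [FiniteDimensional F V]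
  {W : Type w} [AddCommGroup W] [Module F W] [FiniteDimensional F W]

theorem reflGroup_top (h2 : (2 : F) ≠ 0) {Q : QuadraticForm F V}
    (hQ : (QuadraticMap.polarBilin Q).Nondegenerate) : Spinor.reflGroup Q = ⊤ :=
  Spinor.reflGroup_eq_top hQ (Or.inl (Spinor.card_ne_two h2))

theorem mem_commutator_iff' (h2 : (2 : F) ≠ 0) {Q : QuadraticForm F V}
    (hQ : (QuadraticMap.polarBilin Q).Nondegenerate) (g : oGroup Q) :
    g ∈ commutator (oGroup Q) ↔ Spinor.dick g = 1 ∧ Spinor.spin g = 1 :=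
  Spinor.mem_commutator_iff hQ (Or.inl (Spinor.card_ne_two h2)) g

theorem oProd_split {Q₁ : QuadraticForm F V} {Q₂ : QuadraticForm F W} (a : oGroup Q₁) (b : oGroup Q₂) :
    oProd Q₁ Q₂ (a, b) = Spinor.embL (Q := Q₁.prod Q₂) (LinearEquiv.refl F (V × W))
        (fun x => QuadraticMap.prod_apply Q₁ Q₂ x) a *
      Spinor.embL (Q := Q₁.prod Q₂) (LinearEquiv.prodComm F V W)
        (fun x => by rw [QuadraticMap.prod_apply, add_comm]; rfl) b :=
  Subtype.ext (LinearEquiv.ext fun x => rfl)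

theorem inv_oProd (h2 : (2 : F) ≠ 0) {Q₁ : QuadraticForm F V} {Q₂ : QuadraticForm F W}
    (h₁ : (QuadraticMap.polarBilin Q₁).Nondegenerate) (h₂ : (QuadraticMap.polarBilin Q₂).Nondegenerate)
    (a : oGroup Q₁) (b : oGroup Q₂) :
    Spinor.dick (oProd Q₁ Q₂ (a, b)) = Spinor.dick a * Spinor.dick b ∧
      Spinor.spin (oProd Q₁ Q₂ (a, b)) = Spinor.spin a * Spinor.spin b := by
  have hQ := OrthClasses.prod_nondeg h₁ h₂
  have hg := reflGroup_top h2 hQ
  rw [oProd_split, Spinor.dick_mul hQ hg, Spinor.spin_mul hQ hg]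
  obtain ⟨e1, e2⟩ := Spinor.embL_invariants hQ h₁ hg (reflGroup_top h2 h₁)
    (LinearEquiv.refl F (V × W)) (fun x => QuadraticMap.prod_apply Q₁ Q₂ x) a
  obtain ⟨e3, e4⟩ := Spinor.embL_invariants hQ h₂ hg (reflGroup_top h2 h₂)
    (LinearEquiv.prodComm F V W) (fun x => by rw [QuadraticMap.prod_apply, add_comm]; rfl) b
  rw [e1, e2, e3, e4]
  exact ⟨rfl, rfl⟩

/-- Two elements of the derived groups give one of the derived group of the sum. -/
theorem oProd_mem (h2 : (2 : F) ≠ 0) {Q₁ : QuadraticForm F V} {Q₂ : QuadraticForm F W}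
    (h₁ : (QuadraticMap.polarBilin Q₁).Nondegenerate) (h₂ : (QuadraticMap.polarBilin Q₂).Nondegenerate)
    {a : oGroup Q₁} {b : oGroup Q₂} (hd : Spinor.dick a * Spinor.dick b = 1)
    (hs : Spinor.spin a * Spinor.spin b = 1) :
    oProd Q₁ Q₂ (a, b) ∈ commutator (oGroup (Q₁.prod Q₂)) := by
  obtain ⟨e1, e2⟩ := inv_oProd h2 h₁ h₂ a b
  exact (mem_commutator_iff' h2 (OrthClasses.prod_nondeg h₁ h₂) _).2 ⟨e1.trans hd, e2.trans hs⟩

theorem odd_inv (h2 : (2 : F) ≠ 0) {Q : QuadraticForm F V}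
    (hQ : (QuadraticMap.polarBilin Q).Nondegenerate) {g : oGroup Q} {o : ℕ} (ho : Odd o) (hg : g ^ o = 1) :
    Spinor.dick g = 1 ∧ Spinor.spin g = 1 :=
  (mem_commutator_iff' h2 hQ g).1 (PrimeGraphBC.odd_mem_commutator h2 hQ ho hg)

theorem transport_mem {Q : QuadraticForm F V} {Q' : QuadraticForm F W} (e : oGroup Q ≃* oGroup Q')
    {g : oGroup Q} (hg : g ∈ commutator (oGroup Q)) : e g ∈ commutator (oGroup Q') :=
  Subgroup.commutator_mono le_top le_top
    (Subgroup.map_commutator ⊤ ⊤ e.toMonoidHom ▸ Subgroup.mem_map_of_mem e.toMonoidHom hg)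

/-- Every power is trivial or has no non-zero fixed vector. -/
def Free {Q : QuadraticForm F V} (g : oGroup Q) : Prop :=
  ∀ j : ℕ, g ^ j = 1 ∨ ∀ v, (g ^ j).1 v = v → v = 0

theorem sphereHom_pow {Q : QuadraticForm F V} [Finite V] (g : oGroup Q) (j : ℕ) (x : {x : V // Q x = 1}) :
    (((Spinor.sphereHom Q g) ^ j) x : V) = (g ^ j).1 x := by
  rw [← map_pow, Spinor.sphereHom_apply]

/-- A freely acting isometry on the vectors of norm one. -/
theorem free_sphere {Q : QuadraticForm F V} [Finite V] {g : oGroup Q} (hg : Free g)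
    (h1 : g ≠ 1) : ∃ k, Nat.card {x : V // Q x = 1} = orderOf g * k ∧
      Spinor.sphereSign Q g = (-1) ^ ((orderOf g + 1) * k) := by
  classical
  haveI := finite_equiv (F := F) (V := V)
  letI := Fintype.ofFinite {x : V // Q x = 1}
  have hpos : 0 < orderOf g := orderOf_pos g
  have hL : (Spinor.sphereHom Q g) ^ orderOf g = 1 := by rw [← map_pow, pow_orderOf_eq_one, map_one]
  have hne : ∀ j, g ^ j ≠ 1 → ∀ x, ((Spinor.sphereHom Q g) ^ j) x ≠ x := fun j hj x hx => by
    rcases hg j with h | h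
    · exact hj h
    · have h0 : (x : V) = 0 := h x (by rw [← sphereHom_pow, hx])
      have := x.2
      rw [h0, QuadraticMap.map_zero] at this
      exact zero_ne_one this
  obtain ⟨k, hk, hs⟩ := SpectrumBC.semiregular (Spinor.sphereHom Q g) hL hpos fun x j hj0 hjL hx =>
    absurd hx (hne j (fun h => absurd (Nat.le_of_dvd hj0 (orderOf_dvd_of_pow_eq_one h)) (by omega)) x)
  have hsupp : (Spinor.sphereHom Q g).support = Finset.univ := Finset.eq_univ_iff_forall.2 fun x => by
    rw [Equiv.Perm.mem_support]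
    simpa using hne 1 (by rwa [pow_one]) x
  rw [hsupp, Finset.card_univ] at hk
  exact ⟨k, by rw [Nat.card_eq_fintype_card]; exact hk, hs⟩

/-- The invariants of a freely acting isometry with an odd number of orbits on the sphere. -/
theorem free_inv (h2 : (2 : F) ≠ 0) {Q : QuadraticForm F V} [Finite V] {g : oGroup Q} (hg : Free g)
    (he : Even (orderOf g)) (hev : Even (Module.finrank F V)) {k : ℕ} (hk : Odd k)
    (hcard : Nat.card {x : V // Q x = 1} = orderOf g * k) :
    Spinor.dick g = 1 ∧ Spinor.spin g = -1 := by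
  haveI := finite_equiv (F := F) (V := V)
  have hpos : 0 < orderOf g := orderOf_pos g
  have h1 : g ≠ 1 := fun h => by
    rw [h, orderOf_one] at he
    exact absurd he (by decide)
  have hd : Spinor.dick g = 1 := by
    have hb : Spinor.fixS g.1 = ⊥ := (Submodule.eq_bot_iff _).2 fun v hv => by
      rcases hg 1 with h | h
      · exact absurd (by rwa [pow_one] at h) h1
      · exact h v (by rw [pow_one]; exact Spinor.mem_fixS.1 hv)
    have h3 := Spinor.rk_add g.1
    rw [hb, finrank_bot, add_zero] at h3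
    rw [Spinor.dick, h3]
    exact hev.neg_one_pow
  obtain ⟨k', hk', hs⟩ := free_sphere hg h1
  obtain rfl : k' = k := Nat.eq_of_mul_eq_mul_left hpos (hk'.symm.trans hcard)
  refine ⟨hd, ?_⟩
  rw [Spinor.spin, if_neg h2, hd, mul_one, hs, (he.add_one.mul hk).neg_one_pow]

end Cfsg.Agent.SpinNine
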