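import Cfsg.Agent.Lib.SpinNine.Build
import Cfsg.Agent.Lib.FormTorus.SympBound

/-!
Element orders of orthogonal isometries without fixed vectors, odd characteristic.
-/

set_option autoImplicit false
set_option linter.unusedSectionVars false
set_option maxHeartbeats 1000000

namespace Cfsg.Agent.SpinNine

open FormsLib FormTorus OrthClasses SpEightEven Polynomial

universe u v

variable {F : Type u} [Field F] [Fintype F] (p : ℕ) [hp : Fact p.Prime] [hchar : CharP F p]

include hp hchar

theorem ker_pow_ge {V : Type v} [AddCommGroup V] [Module F V] [FiniteDimensional F V]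
    (N : Module.End F V) {K j : ℕ} (hj : 1 ≤ j) (hjK : j ≤ K) :
    min (Module.finrank F (LinearMap.ker (N ^ K)))
      (Module.finrank F (LinearMap.ker N) + (j - 1)) ≤ Module.finrank F (LinearMap.ker (N ^ j)) := by
  induction j, hj using Nat.le_induction with
  | base => rw [pow_one]; omega
  | succ j hj ih =>
    have ih := ih (by omega)
    have hle : LinearMap.ker (N ^ j) ≤ LinearMap.ker (N ^ (j + 1)) := fun v hv => by
      rw [LinearMap.mem_ker] at hv ⊢
      rw [pow_succ', Module.End.mul_apply, hv, map_zero]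
    rcases hle.lt_or_eq with hlt | heq
    · have := Submodule.finrank_lt_finrank_of_lt hlt
      omega
    · have h1 := Module.End.ker_pow_constant (f := N) (k := j) heq (K - j)
      rw [Nat.add_sub_cancel' (by omega)] at h1
      rw [← h1, heq]
      exact min_le_left _ _

section Space

variable {V : Type v} [AddCommGroup V] [Module F V] [FiniteDimensional F V]

theorem root_smul {f : F[X]} [Fact (Irreducible f)] {T : Module.End F V} (h : aeval T f = 0) (i : ℕ) :
    T ^ i = 1 ∨ ∀ v, (T ^ i) v = v → v = 0 := by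
  let φ : AdjoinRoot f →ₐ[F] Module.End F V :=
    Ideal.Quotient.liftₐ (Ideal.span {f}) (aeval T) fun a ha => by
      obtain ⟨b, rfl⟩ := Ideal.mem_span_singleton.1 ha
      rw [map_mul, h, zero_mul]
  have hφ : φ (AdjoinRoot.root f) = T := aeval_X T
  rcases eq_or_ne (AdjoinRoot.root f ^ i) 1 with h1 | h1
  · exact Or.inl (by rw [← hφ, ← map_pow, h1, map_one])
  · refine Or.inr fun v hv => ?_
    have h2 : φ (AdjoinRoot.root f ^ i - 1) v = 0 := by
      rw [map_sub, map_pow, hφ, map_one, LinearMap.sub_apply, Module.End.one_apply, hv, sub_self]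
    have h3 : φ ((AdjoinRoot.root f ^ i - 1)⁻¹ * (AdjoinRoot.root f ^ i - 1)) v = 0 := by
      rw [map_mul, Module.End.mul_apply, h2, map_zero]
    rwa [inv_mul_cancel₀ (sub_ne_zero.2 h1), map_one, Module.End.one_apply] at h3

/-- An order bound by tori and a block size. -/
def Sh (g : V ≃ₗ[F] V) (n : ℕ) : Prop :=
  ∃ (L : List (ℕ × Bool)) (d : ℕ), (∀ x ∈ L, 1 ≤ x.1) ∧ L ≠ [] ∧ torE L + d ≤ n ∧
    en g ^ (torL (Fintype.card F) L * p ^ Nat.clog p (2 * d + 1)) = 1

/-- A vector negated by all high `p`-power powers. -/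
def NegVec (g : V ≃ₗ[F] V) : Prop :=
  ∃ v ≠ 0, ∃ K₀, ∀ K ≥ K₀, (en g ^ p ^ K) v = -v

/-- The three kinds of isometries without fixed vectors. -/
theorem cases_one (h2 : (2 : F) ≠ 0) {Q : QuadraticForm F V} (hQ : (QuadraticMap.polarBilin Q).Nondegenerate)
    [Nontrivial V] (g : oGroup Q) (hfix : ∀ v, g.1 v = v → v = 0) :
    (∃ W₁ W₂ : Submodule F V, IsCompl W₁ W₂ ∧ W₁ ≠ ⊥ ∧ W₂ ≠ ⊥ ∧
      (∀ x ∈ W₁, ∀ y ∈ W₂, QuadraticMap.polar Q x y = 0) ∧ (∀ v ∈ W₁, g.1 v ∈ W₁) ∧ (∀ v ∈ W₂, g.1 v ∈ W₂) ∧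
      ∀ (K : ℕ) (T : Module.End F V), Commute T (en g.1 ^ p ^ K) → (∀ v ∈ W₁, T v ∈ W₁)) ∨
    (Even (Module.finrank F V) ∧ en g.1 ^ (2 * p ^ Nat.clog p (Module.finrank F V - 1)) = 1) ∨
    (Odd (Module.finrank F V) ∧ NegVec p g.1) ∨
    (∃ e k sgn, 1 ≤ e ∧ 1 ≤ k ∧ Module.finrank F V = 2 * (e * k) ∧
      en g.1 ^ (torX (Fintype.card F) (e, sgn) * p ^ Nat.clog p k) = 1 ∧ (k = 1 → Free g)) := by
  haveI := finite_equiv (F := F) (V := V)
  have hT := isTraceForm_polar Q hQ
  obtain ⟨b, m', hord, hco, hm0, hsep⟩ := exists_parts p g.1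
  set s := g.1 ^ p ^ b with hs
  have hsmem : s ∈ oGroup Q := Subgroup.pow_mem _ g.2 _
  have hpres : ∀ {G : V ≃ₗ[F] V}, G ∈ oGroup Q → Preserves (QuadraticMap.polarBilin Q) G :=
    fun {G} hG u v => by
      rw [QuadraticMap.polarBilin_apply_apply, QuadraticMap.polarBilin_apply_apply]
      exact polar_of_mem hG u v
  have hsp := hpres hsmem
  have hgs : Commute (en g.1) (en s) := by rw [hs, en_pow]; exact Commute.self_pow _ _
  have hu : (en g.1 ^ m') ^ p ^ b = 1 := by
    rw [← pow_mul, mul_comm, ← hord, ← en_pow, pow_orderOf_eq_one]; rfl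
  have hm'pos : 0 < m' := by
    rcases Nat.eq_zero_or_pos m' with h0 | h0
    · exact absurd (by rw [hord, h0, mul_zero]) (orderOf_pos g.1).ne'
    · exact h0
  have hcombine : ∀ X c, en s ^ X = 1 → (en g.1 ^ m') ^ p ^ c = 1 → en g.1 ^ (X * p ^ c) = 1 := by
    intro X c hX hc
    rw [← pow_mul, ← en_pow] at hc
    have h3 : orderOf g.1 ∣ m' * p ^ c :=
      orderOf_dvd_of_pow_eq_one (LinearEquiv.toLinearMap_injective hc)
    rw [hord, mul_comm (p ^ b)] at h3
    obtain ⟨t, ht⟩ := Nat.dvd_of_mul_dvd_mul_left hm'pos h3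
    rw [ht, show X * (p ^ b * t) = p ^ b * X * t by ring, pow_mul, pow_mul, ← en_pow, ← hs, hX, one_pow]
  haveI : CharP (Module.End F V) p :=
    charP_of_injective_algebraMap (algebraMap F (Module.End F V)).injective p
  have hnil : (en g.1 ^ m' - 1) ^ p ^ b = 0 := by
    rw [sub_pow_char_pow_of_commute (p := p) (h := Commute.one_right _), one_pow, hu, sub_self]
  have hsord : s ^ m' = 1 := by rw [hs, ← pow_mul, ← hord, pow_orderOf_eq_one]
  have hSK : ∀ K, ∃ t, en s = (en g.1 ^ p ^ K) ^ t := fun K => by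
    have hc : Nat.Coprime (p ^ K) (orderOf s) :=
      (Nat.Coprime.coprime_dvd_right (orderOf_dvd_of_pow_eq_one hsord) (Nat.Coprime.pow_left _
        ((hp.out.coprime_iff_not_dvd).2 fun h => hm0 ((CharP.cast_eq_zero_iff F p m').2 h))))
    obtain ⟨t, ht⟩ := exists_pow_eq_self_of_coprime hc
    refine ⟨p ^ b * t, ?_⟩
    rw [← en_pow, ← en_pow, ← congrArg en ht, hs, ← pow_mul, ← pow_mul, ← pow_mul]
    congr 2
    ring
  have hone' : m' ≠ 0 := hm'pos.ne'
  rcases trichotomy hT hsp hsep with ⟨W₁, W₂, hc, h1, h2', horth, hinv⟩ | hfield | hpair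
  · refine Or.inl ⟨W₁, W₂, hc, h1, h2', fun x hx y hy => (horth x hx y hy).1, (hinv _ hgs).1, (hinv _ hgs).2,
      fun K T hTc => ?_⟩
    obtain ⟨t, ht⟩ := hSK K
    exact (hinv T (ht ▸ hTc.pow_right t)).1
  · obtain ⟨f, -, hfi, hf0, hfd, hfa⟩ := hfield
    haveI := Fact.mk hfi
    have hpw : ∀ X (c : F), AdjoinRoot.root f ^ X = AdjoinRoot.of f c → ∀ v, (en s ^ X) v = c • v :=
      fun X c hX v => apply_pow_eq_smul hX (by rw [hfa]; rfl)
    rcases self_dual_bilin hf0 hfd with hroot | ⟨e, hde, hroot⟩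
    · have hs1 : en s = 1 ∨ en s = -1 := by
        rcases sq_eq_one_iff.1 hroot with h | h
        · left; ext v; simpa using hpw 1 1 (by rw [pow_one, h, map_one]) v
        · right; ext v; simpa using hpw 1 (-1) (by rw [pow_one, h, map_neg, map_one]) v
      rcases hs1 with h1 | h1
      · exfalso
        have hN : (en g.1 - 1) ^ p ^ b = 0 := by
          rw [sub_pow_char_pow_of_commute (p := p) (h := Commute.one_right _), one_pow, ← en_pow, ← hs, h1,
            sub_self]
        have hinj : Function.Injective (en g.1 - 1 : Module.End F V) :=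
          (injective_iff_map_eq_zero _).2 fun v hv => hfix v (sub_eq_zero.1 hv)
        obtain ⟨v, hv⟩ := exists_ne (0 : V)
        refine hv ((hinj.iterate (p ^ b)) ?_)
        rw [← Module.End.coe_pow, hN]
        simp
      rcases Nat.even_or_odd (Module.finrank F V) with hev | hodd
      · refine Or.inr (Or.inl ⟨hev, hcombine 2 _ (by rw [h1]; exact LinearMap.ext fun v => by simp [pow_two]) ?_⟩)
        -- the unipotent part has no regular block
        set u : oGroup Q := g ^ m' with hudef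
        have hu' : en u.1 = en g.1 ^ m' := by rw [hudef, en_oGroup_pow]
        have hnil' : (en u.1 - 1) ^ p ^ b = 0 := by rw [hu']; exact hnil
        have hup : u ^ p ^ b = 1 := by
          refine Subtype.ext (LinearEquiv.toLinearMap_injective ?_)
          show en ((u ^ p ^ b : oGroup Q) : V ≃ₗ[F] V) = 1
          rw [en_oGroup_pow, hu', hu]
        have hd := (odd_inv h2 hQ ((odd_p p h2).pow (n := b)) hup).1
        have hrk : Even (Spinor.rk u.1) := by
          by_contra ho
          rw [Spinor.dick, (Nat.not_even_iff_odd.1 ho).neg_one_pow] at hd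
          exact absurd hd (by decide)
        obtain ⟨r, hr⟩ := hev
        have hD : 1 ≤ Module.finrank F V := Module.finrank_pos
        have hk1 : 2 ≤ Module.finrank F (LinearMap.ker (en u.1 - 1)) := by
          have h3 := Spinor.rk_add u.1
          obtain ⟨r', hr'⟩ := hrk
          have h4 : 1 ≤ Module.finrank F (Spinor.fixS u.1) := by
            by_contra h0
            have hb : LinearMap.ker (en u.1 - 1) = ⊥ := Submodule.finrank_eq_zero.1 (by
              show Module.finrank F (Spinor.fixS u.1) = 0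
              omega)
            obtain ⟨v, hv⟩ := exists_ne (0 : V)
            refine hv (((LinearMap.ker_eq_bot.1 hb).iterate (p ^ b)) ?_)
            rw [← Module.End.coe_pow, hnil']
            simp
          show 2 ≤ Module.finrank F (Spinor.fixS u.1)
          omega
        have hz : (en u.1 - 1) ^ (Module.finrank F V - 1) = 0 := by
          have h5 := ker_pow_ge p (en u.1 - 1) (K := Module.finrank F V) (j := Module.finrank F V - 1)
            (by omega) (by omega)
          rw [pow_finrank_eq_zero hnil', LinearMap.ker_zero, finrank_top] at h5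
          refine LinearMap.ker_eq_top.1 (Submodule.eq_top_of_finrank_eq ?_)
          have := Submodule.finrank_le (LinearMap.ker ((en u.1 - 1) ^ (Module.finrank F V - 1)))
          omega
        have hz' := pow_eq_zero_of_le (Nat.le_pow_clog hp.out.one_lt _) hz
        rw [← hu']
        exact (pow_prime_pow_eq_one_iff p _ _).2 hz'
      · refine Or.inr (Or.inr (Or.inl ⟨hodd, ?_⟩))
        obtain ⟨v, hv⟩ := exists_ne (0 : V)
        refine ⟨v, hv, b, fun K hK => ?_⟩
        rw [← Nat.sub_add_cancel hK, pow_add, mul_comm, pow_mul, ← en_pow, ← hs, h1]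
        have hop : Odd (p ^ (K - b)) := (odd_p p h2).pow
        obtain ⟨z, hz⟩ := hop
        rw [hz, pow_succ, pow_mul, show (-1 : Module.End F V) ^ 2 = 1 from LinearMap.ext fun w => by simp [pow_two],
          one_pow, one_mul]
        simp
    · obtain ⟨k, hk, -⟩ := exists_det_norm hfa
      have he : 1 ≤ e := by
        have := hfi.natDegree_pos
        omega
      have hnk : Module.finrank F V = 2 * (e * k) := by rw [hk, hde]; ring
      have hk1 : 1 ≤ k := by
        have := Module.finrank_pos (R := F) (M := V)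
        rcases Nat.eq_zero_or_pos k with h | h
        · subst h; simp at hnk; omega
        · exact h
      have hpu : (en g.1 ^ m') ^ p ^ Nat.clog p k = 1 := by
        have hc : Commute (en g.1 ^ m' - 1) (en s) := ((hgs.pow_left m')).sub_left (Commute.one_left _)
        have h0 := pow_eq_zero_of_field hfa hc hnil hk
        exact (pow_prime_pow_eq_one_iff p _ _).2 (pow_eq_zero_of_le (Nat.le_pow_clog hp.out.one_lt k) h0)
      refine Or.inr (Or.inr (Or.inr ⟨e, k, true, he, hk1, hnk, hcombine _ _ ?_ hpu, fun hk' j => ?_⟩))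
      · refine LinearMap.ext fun v => ?_
        show (en s ^ (Fintype.card F ^ e + 1)) v = v
        rw [hpw _ 1 (by rw [map_one, ← Nat.card_eq_fintype_card]; exact hroot), one_smul]
      · subst hk'
        rw [Nat.clog_one_right, pow_zero, pow_one] at hpu
        obtain ⟨t, ht⟩ : ∃ t, en g.1 = en s ^ t := by
          have hgm : g.1 ^ m' = 1 := LinearEquiv.toLinearMap_injective (by
            show en (g.1 ^ m') = 1
            rw [en_pow, hpu])
          obtain ⟨t, ht⟩ := exists_pow_eq_self_of_coprime (x := g.1) (n := p ^ b)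
            (hco.coprime_dvd_right (orderOf_dvd_of_pow_eq_one hgm))
          exact ⟨t, by rw [← en_pow, hs, ht]⟩
        rcases root_smul p hfa (t * j) with h | h
        · refine Or.inl ((pow_eq_one_iff_en g j).2 ?_)
          rw [ht, ← pow_mul, h]
        · refine Or.inr fun v hv => h v ?_
          rw [pow_mul, ← ht, ← en_oGroup_pow]
          exact hv
  · obtain ⟨f, W₁, W₂, -, hfi, hf0, hc, -, hi1', hi2', hinv, hf1⟩ := hpair
    haveI := Fact.mk hfi
    obtain ⟨hw1, -⟩ := hinv (en s) (Commute.refl _)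
    have hres : ∀ (g : F[X]) (v : W₁), ((aeval ((en s).restrict hw1) g) v : V) =
        aeval (en s) g (v : V) := by
      intro g v
      induction g using Polynomial.induction_on' generalizing v with
      | add a b ha hb => simp [ha, hb]
      | monomial k c =>
        rw [aeval_monomial, aeval_monomial, Module.End.mul_apply, Module.End.mul_apply,
          Algebra.algebraMap_eq_smul_one, Algebra.algebraMap_eq_smul_one, LinearMap.smul_apply,
          LinearMap.smul_apply, Module.End.one_apply, Module.End.one_apply, Submodule.coe_smul,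
          Module.End.pow_restrict k (h := hw1)]
        rfl
    have hT' : aeval ((en s).restrict hw1) f = 0 :=
      LinearMap.ext fun v => Subtype.ext (by rw [hres, hf1 v v.2]; rfl)
    obtain ⟨k, hk, -⟩ := exists_det_norm hT'
    obtain ⟨hKfin, hKcard⟩ := natCard_adjoinRoot (F := F) hfi.ne_zero
    have hroot : AdjoinRoot.root f ^ (Fintype.card F ^ f.natDegree - 1) = 1 := by
      haveI := Fintype.ofFinite (AdjoinRoot f)
      rw [← Nat.card_eq_fintype_card (α := F), ← hKcard, Nat.card_eq_fintype_card]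
      exact FiniteField.pow_card_sub_one_eq_one _ (root_ne_zero hf0)
    have hnk : Module.finrank F V = 2 * (f.natDegree * k) := by
      have := Submodule.finrank_add_eq_of_isCompl hc
      rw [← finrank_eq_of_pair hT hc hi1' hi2', hk] at this
      omega
    have hk1 : 1 ≤ k := by
      have := Module.finrank_pos (R := F) (M := V)
      rcases Nat.eq_zero_or_pos k with h | h
      · subst h; simp at hnk; omega
      · exact h
    have hone : ∀ (G : V ≃ₗ[F] V), G ∈ oGroup Q → Commute (en G) (en s) →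
        (∀ v ∈ W₁, G v = v) → en G = 1 := fun G hG hc' h1 =>
      eq_smul_of_pair hT hc hi2' (fun u v => hpres hG u v) (hinv (en G) hc').2 h1
    have hpu : (en g.1 ^ m') ^ p ^ Nat.clog p k = 1 := by
      obtain ⟨hg1, -⟩ := hinv (en g.1 ^ m' - 1) (((hgs.pow_left m')).sub_left (Commute.one_left _))
      set N := (en g.1 ^ m' - 1).restrict hg1 with hN'
      have hNp : N ^ p ^ b = 0 := by
        rw [hN', Module.End.pow_restrict (p ^ b) (h := hg1)]
        exact LinearMap.ext fun v => Subtype.ext (by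
          show ((en g.1 ^ m' - 1) ^ p ^ b) (v : V) = 0
          rw [hnil]; rfl)
      have hcN : Commute N ((en s).restrict hw1) := LinearMap.ext fun v => Subtype.ext (by
        show (en g.1 ^ m' - 1) (en s v) = en s ((en g.1 ^ m' - 1) v)
        exact LinearMap.congr_fun (((hgs.pow_left m')).sub_left (Commute.one_left _)).eq (v : V))
      have h0 := pow_eq_zero_of_field hT' hcN hNp hk
      have h1 := pow_eq_zero_of_le (Nat.le_pow_clog hp.out.one_lt k) h0
      rw [hN', Module.End.pow_restrict (p ^ Nat.clog p k) (h := hg1)] at h1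
      rw [← pow_mul, ← en_pow]
      refine hone _ (Subgroup.pow_mem _ g.2 _) (by rw [en_pow]; exact hgs.pow_left _) fun v hv => ?_
      show en (g.1 ^ _) v = v
      have h2 := congrArg Subtype.val (LinearMap.congr_fun h1 ⟨v, hv⟩)
      have h3 : ((en g.1 ^ m' - 1) ^ p ^ Nat.clog p k) v = 0 := h2
      rw [sub_pow_char_pow_of_commute (p := p) (h := Commute.one_right _), one_pow,
        LinearMap.sub_apply, Module.End.one_apply, sub_eq_zero, ← pow_mul] at h3
      rw [en_pow]
      exact h3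
    refine Or.inr (Or.inr (Or.inr ⟨f.natDegree, k, false, hfi.natDegree_pos, hk1, hnk, hcombine _ _ ?_ hpu,
      fun hk' j => ?_⟩))
    · show en s ^ (Fintype.card F ^ f.natDegree - 1) = 1
      rw [← en_pow]
      refine hone _ (Subgroup.pow_mem _ hsmem _) (by rw [en_pow]; exact Commute.pow_self _ _)
        fun v hv => ?_
      show en (s ^ _) v = v
      rw [en_pow, apply_pow_eq_smul (c := (1 : F)) (by rw [hroot, map_one]) (hf1 v hv), one_smul]
    · subst hk'
      rw [Nat.clog_one_right, pow_zero, pow_one] at hpu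
      obtain ⟨t, ht⟩ : ∃ t, g.1 = s ^ t := by
        have hgm : g.1 ^ m' = 1 := LinearEquiv.toLinearMap_injective (by
          show en (g.1 ^ m') = 1
          rw [en_pow, hpu])
        obtain ⟨t, ht⟩ := exists_pow_eq_self_of_coprime (x := g.1) (n := p ^ b)
          (hco.coprime_dvd_right (orderOf_dvd_of_pow_eq_one hgm))
        exact ⟨t, by rw [hs]; exact ht.symm⟩
      set G := s ^ (t * j) with hG
      have hgG : (g ^ j).1 = G := by rw [Subgroup.coe_pow, ht, ← pow_mul]
      have hval : ∀ v : W₁, (((en s).restrict hw1 ^ (t * j)) v : V) = G v := fun v => by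
        rw [Module.End.pow_restrict (t * j) (h := hw1)]
        show (en s ^ (t * j)) (v : V) = G v
        rw [← en_pow]; rfl
      rcases root_smul p hT' (t * j) with h | h
      · refine Or.inl ((pow_eq_one_iff_en g j).2 ?_)
        rw [← en_oGroup_pow, hgG]
        refine hone G (Subgroup.pow_mem _ hsmem _) (by rw [hG, en_pow]; exact Commute.pow_self _ _) fun v hv => ?_
        rw [← hval ⟨v, hv⟩, h]
        rfl
      · refine Or.inr fun v hv => ?_
        rw [hgG] at hv
        obtain ⟨x, hx, y, hy, rfl⟩ := Submodule.mem_sup.1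
          (hc.sup_eq_top ▸ Submodule.mem_top : v ∈ W₁ ⊔ W₂)
        have hcG : Commute (en G) (en s) := by rw [hG, en_pow]; exact Commute.pow_self _ _
        obtain ⟨hG1, hG2⟩ := hinv (en G) hcG
        rw [map_add] at hv
        have hxy : G x = x ∧ G y = y := by
          have e1 : G x - x = y - G y := by linear_combination (norm := abel) hv
          have hz := Submodule.disjoint_def.1 hc.disjoint _ (sub_mem (hG1 x hx) hx)
            (show G x - x ∈ W₂ by rw [e1]; exact sub_mem hy (hG2 y hy))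
          have hz' : y - G y = 0 := e1 ▸ hz
          exact ⟨sub_eq_zero.1 hz, (sub_eq_zero.1 hz').symm⟩
        have hx0 : x = 0 := congrArg Subtype.val (h ⟨x, hx⟩ (Subtype.ext ((hval ⟨x, hx⟩).trans hxy.1)))
        subst hx0
        rw [zero_add]
        -- surjectivity of `G - 1` on `W₁`
        have hinjW : Function.Injective (((en s).restrict hw1 ^ (t * j)) - 1 : Module.End F W₁) :=
          (injective_iff_map_eq_zero _).2 fun z hz => h z (sub_eq_zero.1 hz)
        refine eq_zero_of_pair hT hc.symm hi2' hy fun z hz => ?_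
        obtain ⟨z', hz'⟩ := LinearMap.injective_iff_surjective.1 hinjW ⟨z, hz⟩
        have hzz : G (z' : V) - (z' : V) = z := by
          rw [← hval]; exact congrArg Subtype.val hz'
        rw [QuadraticMap.polarBilin_apply_apply, ← hzz, QuadraticMap.polar_sub_right]
        have h5 := polar_of_mem (Subgroup.pow_mem _ hsmem (t * j)) y (z' : V)
        rw [← hG, hxy.2] at h5
        rw [h5, sub_self]

/-- Restriction to an invariant part. -/
theorem exists_part {Q : QuadraticForm F V} (hQ : (QuadraticMap.polarBilin Q).Nondegenerate)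
    (g : oGroup Q) (hfix : ∀ v, g.1 v = v → v = 0) {W W' : Submodule F V} (hc : IsCompl W W')
    (ho : ∀ x ∈ W, ∀ y ∈ W', QuadraticMap.polar Q x y = 0) (hi : ∀ v ∈ W, g.1 v ∈ W) :
    ∃ h : oGroup (Q.comp W.subtype), (∀ w : W, (h.1 w : V) = g.1 w) ∧
      (QuadraticMap.polarBilin (Q.comp W.subtype)).Nondegenerate ∧ ∀ w, h.1 w = w → w = 0 := by
  have hinj : Function.Injective ((en g.1).restrict (p := W) (q := W) hi) := fun x y e =>
    Subtype.ext (g.1.injective (congrArg Subtype.val e))
  refine ⟨⟨LinearEquiv.ofInjectiveEndo _ hinj, fun v => g.2 (v : V)⟩, fun w => rfl, ?_, fun w hw => ?_⟩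
  · exact nondeg_left fun x hx => Subtype.ext (hQ.1 x fun y => by
      obtain ⟨y1, hy1, y2, hy2, rfl⟩ := Submodule.mem_sup.1
        (hc.sup_eq_top ▸ Submodule.mem_top : y ∈ W ⊔ W')
      rw [QuadraticMap.polarBilin_apply_apply, QuadraticMap.polar_add_right, ho _ x.2 _ hy2, add_zero]
      have := hx ⟨y1, hy1⟩
      simpa [QuadraticMap.polar] using this)
  · exact Subtype.ext (hfix w (congrArg Subtype.val hw))

theorem sh_combine {Q : QuadraticForm F V} (g : oGroup Q) {W₁ W₂ : Submodule F V} (hc : IsCompl W₁ W₂)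
    (h₁ : oGroup (Q.comp W₁.subtype)) (he₁ : ∀ w : W₁, (h₁.1 w : V) = g.1 w)
    (h₂ : oGroup (Q.comp W₂.subtype)) (he₂ : ∀ w : W₂, (h₂.1 w : V) = g.1 w)
    {n₁ n₂ : ℕ} (s₁ : Sh p h₁.1 n₁) (s₂ : Sh p h₂.1 n₂) :
    ∃ (L : List (ℕ × Bool)) (d : ℕ), (∀ x ∈ L, 1 ≤ x.1) ∧ 2 ≤ L.length ∧ torE L + d ≤ n₁ + n₂ ∧
      en g.1 ^ (torL (Fintype.card F) L * p ^ Nat.clog p (2 * d + 1)) = 1 := by
  obtain ⟨L₁, d₁, hL₁, hne₁, hb₁, hp₁⟩ := s₁
  obtain ⟨L₂, d₂, hL₂, hne₂, hb₂, hp₂⟩ := s₂
  refine ⟨L₁ ++ L₂, d₁ + d₂, fun x hx => (List.mem_append.1 hx).elim (hL₁ x) (hL₂ x), ?_,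
    by rw [torE_append]; omega, LinearMap.ext fun v => ?_⟩
  · have := List.length_pos_of_ne_nil hne₁
    have := List.length_pos_of_ne_nil hne₂
    rw [List.length_append]; omega
  obtain ⟨x, hx, y, hy, rfl⟩ := Submodule.mem_sup.1 (hc.sup_eq_top ▸ Submodule.mem_top : v ∈ W₁ ⊔ W₂)
  set X := torL (Fintype.card F) (L₁ ++ L₂) * p ^ Nat.clog p (2 * (d₁ + d₂) + 1) with hX
  obtain ⟨t₁, ht₁⟩ : torL (Fintype.card F) L₁ * p ^ Nat.clog p (2 * d₁ + 1) ∣ X :=
    Nat.mul_dvd_mul (torL_append _ L₁ L₂ ▸ Nat.dvd_lcm_left _ _)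
      (pow_dvd_pow p (Nat.clog_mono_right p (by omega)))
  obtain ⟨t₂, ht₂⟩ : torL (Fintype.card F) L₂ * p ^ Nat.clog p (2 * d₂ + 1) ∣ X :=
    Nat.mul_dvd_mul (torL_append _ L₁ L₂ ▸ Nat.dvd_lcm_right _ _)
      (pow_dvd_pow p (Nat.clog_mono_right p (by omega)))
  have e1 := inter_pow W₁.subtype (a := en h₁.1) (b := en g.1) he₁ X ⟨x, hx⟩
  have e2 := inter_pow W₂.subtype (a := en h₂.1) (b := en g.1) he₂ X ⟨y, hy⟩
  rw [show (en h₁.1) ^ X = 1 by rw [ht₁, pow_mul, hp₁, one_pow]] at e1
  rw [show (en h₂.1) ^ X = 1 by rw [ht₂, pow_mul, hp₂, one_pow]] at e2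
  rw [map_add, map_add]
  congr 1
  · exact e1.symm
  · exact e2.symm

theorem negVec_up {Q : QuadraticForm F V} (g : oGroup Q) {W : Submodule F V}
    (h : oGroup (Q.comp W.subtype)) (he : ∀ w : W, (h.1 w : V) = g.1 w) (hn : NegVec p h.1) :
    NegVec p g.1 := by
  obtain ⟨v, hv, K₀, hK⟩ := hn
  refine ⟨v, fun h0 => hv (Subtype.ext h0), K₀, fun K hKK => ?_⟩
  have e := inter_pow W.subtype (a := en h.1) (b := en g.1) he (p ^ K) v
  rw [hK K hKK, map_neg] at e
  exact e.symm

theorem not_both_odd {Q : QuadraticForm F V} (g : oGroup Q) {W₁ W₂ : Submodule F V} (hc : IsCompl W₁ W₂)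
    (hT : ∀ (K : ℕ) (T : Module.End F V), Commute T (en g.1 ^ p ^ K) → (∀ v ∈ W₁, T v ∈ W₁))
    (h₁ : oGroup (Q.comp W₁.subtype)) (he₁ : ∀ w : W₁, (h₁.1 w : V) = g.1 w)
    (hnd : (QuadraticMap.polarBilin (Q.comp W₁.subtype)).Nondegenerate)
    (h₂ : oGroup (Q.comp W₂.subtype)) (he₂ : ∀ w : W₂, (h₂.1 w : V) = g.1 w)
    (n₁ : NegVec p h₁.1) (n₂ : NegVec p h₂.1) : False := by
  obtain ⟨a, ha, K₁, hK₁⟩ := n₁
  obtain ⟨c, hc', K₂, hK₂⟩ := n₂
  set K := K₁ + K₂ with hKdef
  have ea := inter_pow W₁.subtype (a := en h₁.1) (b := en g.1) he₁ (p ^ K) a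
  have ec := inter_pow W₂.subtype (a := en h₂.1) (b := en g.1) he₂ (p ^ K) c
  rw [hK₁ K (by omega), map_neg] at ea
  rw [hK₂ K (by omega), map_neg] at ec
  simp only [Submodule.subtype_apply] at ea ec
  set S := en g.1 ^ p ^ K with hS
  let T : Module.End F V := ((QuadraticMap.polarBilin Q) (a : V)).smulRight (c : V)
  have hTv : ∀ v, T v = QuadraticMap.polar Q (a : V) v • (c : V) := fun v => rfl
  have hcomm : Commute T S := LinearMap.ext fun v => by
    rw [Module.End.mul_apply, Module.End.mul_apply, hTv, hTv, map_smul, ← ec]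
    have h1 : QuadraticMap.polar Q (S (a : V)) (S v) = QuadraticMap.polar Q (a : V) v := by
      rw [hS, ← en_pow]
      exact polar_of_mem (Subgroup.pow_mem _ g.2 _) _ _
    rw [← ea, QuadraticMap.polar_neg_left] at h1
    rw [← h1, neg_smul, smul_neg, neg_neg]
  obtain ⟨y, hy⟩ : ∃ y : W₁, QuadraticMap.polar Q (a : V) (y : V) ≠ 0 := by
    by_contra hne
    push Not at hne
    exact ha (hnd.1 a fun y => by
      have := hne y
      simpa [QuadraticMap.polar] using this)
  have hmem := hT K T hcomm (y : V) y.2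
  rw [hTv] at hmem
  have h2 : QuadraticMap.polar Q (a : V) (y : V) • (c : V) = 0 :=
    Submodule.disjoint_def.1 hc.disjoint _ hmem (Submodule.smul_mem _ _ c.2)
  exact hc' (Subtype.ext ((smul_eq_zero.1 h2).resolve_left hy))

end Space

theorem sh_block {q e k : ℕ} {sgn : Bool} {V : Type v} [AddCommGroup V] [Module F V]
    (hq : q = Fintype.card F) {g : V ≃ₗ[F] V} (he : 1 ≤ e) (hk : 1 ≤ k)
    (h : en g ^ (torX q (e, sgn) * p ^ Nat.clog p k) = 1) : Sh p g (e * k) := by
  subst hq
  refine ⟨[(e, sgn)], k / 2, by simp [he], by simp, ?_, ?_⟩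
  · obtain ⟨k', rfl⟩ : ∃ k', k = k' + 1 := ⟨k - 1, by omega⟩
    rw [mul_add, mul_one]
    simp only [torE, add_zero]
    have : k' ≤ e * k' := Nat.le_mul_of_pos_left _ he
    omega
  · obtain ⟨t, ht⟩ : torX (Fintype.card F) (e, sgn) * p ^ Nat.clog p k ∣
        torL (Fintype.card F) [(e, sgn)] * p ^ Nat.clog p (2 * (k / 2) + 1) :=
      Nat.mul_dvd_mul (Nat.dvd_lcm_left _ _) (pow_dvd_pow p (Nat.clog_mono_right p (by omega)))
    rw [ht, pow_mul, h, one_pow]

/-- The shape of every isometry without fixed vectors. -/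
theorem shape_rec (h2 : (2 : F) ≠ 0) : ∀ (D : ℕ) {V : Type v} [AddCommGroup V] [Module F V] [FiniteDimensional F V]
    (Q : QuadraticForm F V), (QuadraticMap.polarBilin Q).Nondegenerate → ∀ g : oGroup Q,
    (∀ v, g.1 v = v → v = 0) → Module.finrank F V = D → 1 ≤ D →
    (Even D → Sh p g.1 (D / 2)) ∧ (Odd D → NegVec p g.1) := by
  intro D
  induction D using Nat.strong_induction_on with
  | _ D ih =>
  intro V _ _ _ Q hQ g hfix hfin hD
  haveI : Nontrivial V := Module.nontrivial_of_finrank_pos (R := F) (by omega)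
  rcases cases_one p h2 hQ g hfix with
    ⟨W₁, W₂, hc, hb1, hb2, ho, hi1, hi2, hT⟩ | ⟨hev, hpw⟩ | ⟨hodd, hn⟩ | ⟨e, k, sgn, he, hk, hek, hpw, -⟩
  · obtain ⟨h₁, he₁, hn₁, hf₁⟩ := exists_part p hQ g hfix hc ho hi1
    obtain ⟨h₂, he₂, hn₂, hf₂⟩ := exists_part p hQ g hfix hc.symm
      (fun x hx y hy => by rw [QuadraticMap.polar_comm]; exact ho y hy x hx) hi2
    have hsum := Submodule.finrank_add_eq_of_isCompl hc
    have hp1 : 0 < Module.finrank F W₁ := by rw [pos_iff_ne_zero, Ne, Submodule.finrank_eq_zero]; exact hb1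
    have hp2 : 0 < Module.finrank F W₂ := by rw [pos_iff_ne_zero, Ne, Submodule.finrank_eq_zero]; exact hb2
    obtain ⟨E₁, O₁⟩ := ih (Module.finrank F W₁) (by omega) _ hn₁ h₁ hf₁ rfl hp1
    obtain ⟨E₂, O₂⟩ := ih (Module.finrank F W₂) (by omega) _ hn₂ h₂ hf₂ rfl hp2
    rcases Nat.even_or_odd (Module.finrank F W₁) with e1 | o1 <;>
      rcases Nat.even_or_odd (Module.finrank F W₂) with e2 | o2
    · refine ⟨fun _ => ?_, fun ho' => absurd ho' (Nat.not_odd_iff_even.2 (by rw [← hfin, ← hsum]; exact e1.add e2))⟩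
      obtain ⟨L, d, hL, hlen, hb, hp⟩ := sh_combine p g hc h₁ he₁ h₂ he₂ (E₁ e1) (E₂ e2)
      refine ⟨L, d, hL, fun h => by rw [h] at hlen; simp at hlen, ?_, hp⟩
      obtain ⟨r1, hr1⟩ := e1
      obtain ⟨r2, hr2⟩ := e2
      omega
    · exact ⟨fun h => absurd h (Nat.not_even_iff_odd.2 (by rw [← hfin, ← hsum]; exact e1.add_odd o2)),
        fun _ => negVec_up p g h₂ he₂ (O₂ o2)⟩
    · exact ⟨fun h => absurd h (Nat.not_even_iff_odd.2 (by rw [← hfin, ← hsum]; exact o1.add_even e2)),
        fun _ => negVec_up p g h₁ he₁ (O₁ o1)⟩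
    · exact (not_both_odd p g hc hT h₁ he₁ hn₁ h₂ he₂ (O₁ o1) (O₂ o2)).elim
  · refine ⟨fun _ => ?_, fun h => absurd (hfin ▸ hev) (Nat.not_even_iff_odd.2 h)⟩
    refine ⟨[(1, true)], D / 2 - 1, by simp, by simp, ?_, ?_⟩
    · obtain ⟨r, hr⟩ := hev
      simp only [torE, add_zero]
      omega
    · obtain ⟨r, hr⟩ := hev
      have e : 2 * (D / 2 - 1) + 1 = Module.finrank F V - 1 := by omega
      rw [e]
      have h2' : (2 : ℕ) ∣ torL (Fintype.card F) [(1, true)] := by
        refine dvd_trans ?_ (Nat.dvd_lcm_left _ _)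
        show 2 ∣ Fintype.card F ^ 1 + 1
        rw [pow_one]
        exact (odd_card h2).add_one.two_dvd
      obtain ⟨t, ht⟩ := Nat.mul_dvd_mul_right h2' (p ^ Nat.clog p (Module.finrank F V - 1))
      rw [ht, pow_mul, hpw, one_pow]
  · exact ⟨fun h => absurd h (Nat.not_even_iff_odd.2 (hfin ▸ hodd)), fun _ => hn⟩
  · refine ⟨fun _ => ?_, fun h => absurd ⟨e * k, by omega⟩ (Nat.not_even_iff_odd.2 h)⟩
    rw [show D / 2 = e * k by omega]
    exact sh_block p rfl he hk hpw

end Cfsg.Agent.SpinNine
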