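import Cfsg.Agent.Lib.SpinNine.Main

/-!
The spectrum of the group in dimension nine and of the split extension in dimension eight.
-/

set_option autoImplicit false
set_option linter.unusedSectionVars false
set_option maxHeartbeats 1000000

namespace Cfsg.Agent.SpinNine

open FormsLib FormTorus OrthClasses SpEightEven

universe u

variable {F : Type u} [Field F] [Fintype F]

theorem equiv_mem {G G' : Type*} [Group G] [Group G'] (e : G ≃* G') {g : G} (hg : g ∈ commutator G) :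
    e g ∈ commutator G' :=
  Subgroup.commutator_mono le_top le_top
    (Subgroup.map_commutator ⊤ ⊤ e.toMonoidHom ▸ Subgroup.mem_map_of_mem e.toMonoidHom hg)

variable {a b : F}

theorem spectrum_eq (hF : Odd (Fintype.card F))
    (hab : ∀ z₁ z₂ : F, z₁ ^ 2 + a * z₁ * z₂ + b * z₂ ^ 2 = 0 → z₁ = 0 ∧ z₂ = 0)
    (Q : QuadraticForm F (MI 3 → F)) (hQ : ⇑Q = Cfsg.quadFormMinus 3 F a b)
    (hQn : (QuadraticMap.polarBilin Q).Nondegenerate) :
    Set.range (orderOf : Cfsg.POmega F (Cfsg.quadFormOdd 4 F) → ℕ) =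
      Set.range (orderOf :
        (Multiplicative (MI 3 → F)) ⋊[
          (MulAutMultiplicative (MI 3 → F)).symm.toMonoidHom.comp
           ((DistribMulAction.toAddAut (LinearMap.GeneralLinearGroup F (MI 3 → F))
              (MI 3 → F)).comp
            (Matrix.GeneralLinearGroup.toLin.toMonoidHom.comp
              ((Cfsg.isometryGroup F ⇑Q).subtype.comp (Cfsg.Omega F ⇑Q).subtype)))]
          ↥(Cfsg.Omega F ⇑Q) → ℕ) := by
  classical
  obtain ⟨p, hchar⟩ := CharP.exists F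
  obtain ⟨n, hpp, hn⟩ := FiniteField.card F p
  haveI := Fact.mk hpp
  have h2 : (2 : F) ≠ 0 := fun h => by
    have h' : p ∣ 2 := (CharP.cast_eq_zero_iff F p 2).1 (by exact_mod_cast h)
    rw [hn, (Nat.prime_dvd_prime_iff_eq hpp Nat.prime_two).1 h'] at hF
    exact Nat.not_even_iff_odd.2 hF (Nat.even_pow.2 ⟨even_two, n.ne_zero⟩)
  set φ := (MulAutMultiplicative (MI 3 → F)).symm.toMonoidHom.comp
           ((DistribMulAction.toAddAut (LinearMap.GeneralLinearGroup F (MI 3 → F))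
              (MI 3 → F)).comp
            (Matrix.GeneralLinearGroup.toLin.toMonoidHom.comp
              ((Cfsg.isometryGroup F ⇑Q).subtype.comp (Cfsg.Omega F ⇑Q).subtype))) with hφdef
  have hφ : ∀ (A : ↥(Cfsg.Omega F ⇑Q)) (w : Multiplicative (MI 3 → F)),
      (φ A w).toAdd = (oEquiv Q A.1).1 w.toAdd := fun A w => rfl
  haveI : Finite (Multiplicative (MI 3 → F) ⋊[φ] ↥(Cfsg.Omega F ⇑Q)) :=
    Finite.of_equiv _ (SemidirectProduct.equivProd).symm
  have hpow : ∀ (x : Multiplicative (MI 3 → F) ⋊[φ] ↥(Cfsg.Omega F ⇑Q)) (i : ℕ),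
      (x ^ i).right = x.right ^ i ∧ (x ^ i).left.toAdd =
        (∑ l ∈ Finset.range i, (en (oEquiv Q x.right.1).1) ^ l) x.left.toAdd := by
    intro x i
    induction i with
    | zero => exact ⟨by simp, by simp⟩
    | succ i ih =>
      refine ⟨by rw [pow_succ, SemidirectProduct.mul_right, ih.1, pow_succ], ?_⟩
      rw [pow_succ, SemidirectProduct.mul_left, toAdd_mul, ih.2, hφ, ih.1,
        Finset.sum_range_succ, LinearMap.add_apply, Subgroup.coe_pow, map_pow, ← en_oGroup_pow]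
      rfl
  have hiff : ∀ (x : Multiplicative (MI 3 → F) ⋊[φ] ↥(Cfsg.Omega F ⇑Q)) (i : ℕ), x ^ i = 1 ↔
      (oEquiv Q x.right.1) ^ i = 1 ∧
        (∑ l ∈ Finset.range i, (en (oEquiv Q x.right.1).1) ^ l) x.left.toAdd = 0 := fun x i => by
    constructor
    · intro h
      refine ⟨?_, ?_⟩
      · rw [← map_pow, ← Subgroup.coe_pow, ← (hpow x i).1, h]
        exact map_one _
      · rw [← (hpow x i).2, h]; rfl
    · rintro ⟨h1, h2⟩
      refine SemidirectProduct.ext ?_ ?_
      · rw [SemidirectProduct.one_left]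
        refine Multiplicative.toAdd.injective ?_
        rw [(hpow x i).2, h2, toAdd_one]
      · rw [(hpow x i).1, SemidirectProduct.one_right]
        refine Subtype.ext ((oEquiv Q).injective ?_)
        rw [Subgroup.coe_pow, map_pow, h1, Subgroup.coe_one, map_one]
  ext N
  constructor
  · rintro ⟨y, rfl⟩
    obtain ⟨N', g, hg, v, hv, hN'⟩ : ∃ N', ∃ g : oGroup Q, g ∈ commutator (oGroup Q) ∧ ∃ v,
        (∀ j, g ^ j = 1 → (∑ i ∈ Finset.range j, (en g.1) ^ i) v = 0 → N' ∣ j) ∧ orderOf y ∣ N' := by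
      revert y
      rw [← FormsLib.coe_qOdd]
      intro y
      obtain ⟨c, rfl⟩ := QuotientGroup.mk_surjective y
      obtain ⟨g, hg, v, hv⟩ := eight_of_nine p h2 hab hQ (FormsLib.qOdd_nondeg h2) (by simp)
        (oEquiv (qOdd 4 F) c.1) (equiv_mem _ c.2)
      exact ⟨_, g, hg, v, hv, by rw [PrimeGraphBC.proj_orderOf h2 (by norm_num)]⟩
    let A : ↥(Cfsg.Omega F ⇑Q) := ⟨(oEquiv Q).symm g, equiv_mem (oEquiv Q).symm hg⟩
    let x : Multiplicative (MI 3 → F) ⋊[φ] ↥(Cfsg.Omega F ⇑Q) := ⟨Multiplicative.ofAdd v, A⟩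
    have hA : oEquiv Q A.1 = g := (oEquiv Q).apply_symm_apply g
    have hx : orderOf y ∣ orderOf x := by
      refine hN'.trans ?_
      obtain ⟨h1, h3⟩ := (hiff x (orderOf x)).1 (pow_orderOf_eq_one x)
      rw [show oEquiv Q x.right.1 = g from hA] at h1 h3
      exact hv _ h1 h3
    exact ⟨x ^ (orderOf x / orderOf y), orderOf_pow_orderOf_div (orderOf_pos x).ne' hx⟩
  · rintro ⟨x, rfl⟩
    obtain ⟨M, ⟨y, hy⟩, hM1, hM2⟩ := nine_of_eight p h2 hQn (by simp) (oEquiv Q x.right.1)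
      (equiv_mem _ x.right.2)
    have hd : orderOf x ∣ orderOf y := hy ▸ orderOf_dvd_of_pow_eq_one ((hiff x M).2 ⟨hM1, by
      rw [hM2, LinearMap.zero_apply]⟩)
    exact ⟨y ^ (orderOf y / orderOf x), orderOf_pow_orderOf_div (orderOf_pos y).ne' hd⟩

end Cfsg.Agent.SpinNine
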