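import Cfsg.Agent.Lib.SpinNine.Unipotent

/-!
The orthogonal splitting of an isometry into a unipotent part and a part without fixed vectors.
-/

set_option autoImplicit false
set_option linter.unusedSectionVars false

namespace Cfsg.Agent.SpinNine

open FormsLib FormTorus OrthClasses SpEightEven

universe u v

variable {F : Type u} [Field F] [Fintype F] {V : Type v} [AddCommGroup V] [Module F V] [FiniteDimensional F V]

theorem exists_split {Q : QuadraticForm F V} (hQ : (QuadraticMap.polarBilin Q).Nondegenerate) (g : oGroup Q) :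
    ∃ (U W : Submodule F V) (e : (U × W) ≃ₗ[F] V)
      (he : ∀ x, Q (e x) = (Q.comp U.subtype).prod (Q.comp W.subtype) x)
      (gU : oGroup (Q.comp U.subtype)) (gW : oGroup (Q.comp W.subtype)),
      (QuadraticMap.polarBilin (Q.comp U.subtype)).Nondegenerate ∧
      (QuadraticMap.polarBilin (Q.comp W.subtype)).Nondegenerate ∧
      g = oTrans e he (oProd (Q.comp U.subtype) (Q.comp W.subtype) (gU, gW)) ∧
      (en gU.1 - 1) ^ Module.finrank F V = 0 ∧ ∀ w, gW.1 w = w → w = 0 := by
  set G := en g.1 with hG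
  set N := G - 1 with hNdef
  set D := Module.finrank F V with hD
  have hGap : ∀ v, G v = g.1 v := fun _ => rfl
  have hcomm : Commute G N := (Commute.refl G).sub_right (Commute.one_right G)
  let U := LinearMap.ker (N ^ D)
  let W := LinearMap.range (N ^ D)
  have hker : ∀ j, LinearMap.ker (N ^ j) ≤ U := fun j => N.ker_pow_le_ker_pow_finrank j
  have hdisj : Disjoint U W := by
    rw [Submodule.disjoint_def]
    rintro x hx ⟨y, rfl⟩
    rw [LinearMap.mem_ker, ← Module.End.mul_apply, ← pow_add] at hx
    exact LinearMap.mem_ker.1 (hker (D + D) (LinearMap.mem_ker.2 hx))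
  have hc : IsCompl U W := by
    refine (Submodule.isCompl_iff_disjoint U W ?_).2 hdisj
    show Module.finrank F V ≤ _
    rw [add_comm, LinearMap.finrank_range_add_finrank_ker]
  have horth : ∀ j y u, (N ^ j) u = 0 → QuadraticMap.polar Q ((N ^ j) y) u = 0 := by
    intro j
    induction j with
    | zero =>
      intro y u hu
      rw [show u = 0 by simpa using hu, QuadraticMap.polar_zero_right]
    | succ j ih =>
      intro y u hu
      rw [pow_succ, Module.End.mul_apply] at hu
      have h1 := ih (G y) (N u) hu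
      have e1 : (N ^ (j + 1)) y = G ((N ^ j) y) - (N ^ j) y := by
        rw [pow_succ', Module.End.mul_apply, hNdef, LinearMap.sub_apply, Module.End.one_apply]
      have e2 : (N ^ j) (G y) = G ((N ^ j) y) := by
        rw [← Module.End.mul_apply, ← (hcomm.pow_right j).eq, Module.End.mul_apply]
      rw [e2, hNdef, LinearMap.sub_apply, Module.End.one_apply, QuadraticMap.polar_sub_right, hGap, hGap,
        polar_of_mem g.2] at h1
      rw [e1, QuadraticMap.polar_sub_left, hGap]
      linear_combination -h1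
  have hUW : ∀ x ∈ U, ∀ y ∈ W, QuadraticMap.polar Q x y = 0 := by
    rintro x hx y ⟨z, rfl⟩
    rw [QuadraticMap.polar_comm, horth D z x (LinearMap.mem_ker.1 hx)]
  have hGN : ∀ v, G ((N ^ D) v) = (N ^ D) (G v) := fun v => by
    rw [← Module.End.mul_apply, (hcomm.pow_right D).eq, Module.End.mul_apply]
  have hiU : ∀ v ∈ U, G v ∈ U := fun v hv => by
    rw [LinearMap.mem_ker] at hv ⊢
    rw [← hGN, hv, map_zero]
  have hiW : ∀ v ∈ W, G v ∈ W := by
    rintro v ⟨y, rfl⟩
    exact ⟨G y, (hGN y).symm⟩
  let e := Submodule.prodEquivOfIsCompl U W hc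
  have hec : ∀ x, e x = (x.1 : V) + x.2 := fun x => rfl
  have he : ∀ x, Q (e x) = (Q.comp U.subtype).prod (Q.comp W.subtype) x := fun x => by
    rw [QuadraticMap.prod_apply, hec]
    show Q ((x.1 : V) + x.2) = Q x.1 + Q x.2
    rw [quad_add, hUW _ x.1.2 _ x.2.2, add_zero]
  have hnd : ∀ A B : Submodule F V, A ⊔ B = ⊤ → (∀ x ∈ A, ∀ y ∈ B, QuadraticMap.polar Q x y = 0) →
      (QuadraticMap.polarBilin (Q.comp A.subtype)).Nondegenerate := fun A B hAB ho =>
    nondeg_left fun x hx => Subtype.ext (hQ.1 x fun y => by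
      obtain ⟨y1, hy1, y2, hy2, rfl⟩ := Submodule.mem_sup.1 (hAB ▸ Submodule.mem_top : y ∈ A ⊔ B)
      rw [QuadraticMap.polarBilin_apply_apply, QuadraticMap.polar_add_right, ho _ x.2 _ hy2, add_zero]
      have := hx ⟨y1, hy1⟩
      simpa [QuadraticMap.polar] using this)
  have hinj : ∀ (A : Submodule F V) (hA : ∀ v ∈ A, G v ∈ A), Function.Injective (G.restrict hA) :=
    fun A hA x y h => Subtype.ext (g.1.injective (congrArg Subtype.val h))
  let gU : oGroup (Q.comp U.subtype) :=
    ⟨LinearEquiv.ofInjectiveEndo _ (hinj U hiU), fun v => g.2 (v : V)⟩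
  let gW : oGroup (Q.comp W.subtype) :=
    ⟨LinearEquiv.ofInjectiveEndo _ (hinj W hiW), fun v => g.2 (v : V)⟩
  refine ⟨U, W, e, he, gU, gW, hnd U W hc.sup_eq_top hUW,
    hnd W U (by rw [sup_comm, hc.sup_eq_top]) (fun x hx y hy => by rw [QuadraticMap.polar_comm, hUW y hy x hx]),
    ?_, ?_, ?_⟩
  · refine Subtype.ext (LinearEquiv.ext fun v => ?_)
    obtain ⟨x, rfl⟩ := e.surjective v
    rw [oTrans_apply, hec, hec, map_add]
    rfl
  · refine LinearMap.ext fun x => Subtype.ext ?_
    show U.subtype _ = 0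
    rw [inter_sub_pow U.subtype (b := G) (fun v => rfl)]
    exact LinearMap.mem_ker.1 x.2
  · intro w hw
    have h1 : (N : Module.End F V) (w : V) = 0 := by
      rw [hNdef, LinearMap.sub_apply, Module.End.one_apply, sub_eq_zero]
      exact congrArg Subtype.val hw
    refine Subtype.ext (Submodule.disjoint_def.1 hdisj _ (hker 1 ?_) w.2)
    rw [pow_one]
    exact h1

end Cfsg.Agent.SpinNine
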