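import Cfsg.Agent.Lib.SpinNine.Invariants
import Cfsg.Agent.Lib.OrthClasses.Models

/-!
Maximal tori in dimension `2e`: generators have non-trivial spinor norm.
-/

set_option autoImplicit false
set_option linter.unusedSectionVars false

namespace Cfsg.Agent.SpinNine

open FormsLib FormTorus OrthClasses SpEightEven

universe u v

variable {F : Type u} [Field F] [Fintype F]

theorem odd_card (h2 : (2 : F) ≠ 0) : Odd (Fintype.card F) :=
  Nat.odd_iff.2 (FiniteField.odd_card_of_char_ne_two (Spinor.ringChar_ne_two h2))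

theorem nondeg_left {V : Type*} [AddCommGroup V] [Module F V] {Q : QuadraticForm F V}
    (h : ∀ x, (∀ y, QuadraticMap.polar Q x y = 0) → x = 0) :
    (QuadraticMap.polarBilin Q).Nondegenerate :=
  ⟨h, fun x hx => h x fun y => by rw [QuadraticMap.polar_comm]; exact hx y⟩

/-- A generator of a maximal torus of the given type. -/
def Gen (F : Type u) [Field F] [Fintype F] (s : Bool) (e : ℕ) : Prop :=
  ∃ (Q : QuadraticForm F (Fin (2 * e) → F)) (g : oGroup Q), Sgn Q e s ∧ Spinor.dick g = 1 ∧
    Spinor.spin g = -1 ∧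
    (if s then Fintype.card F ^ e - 1 else Fintype.card F ^ e + 1) ∣ orderOf g

theorem gen_of {V : Type v} [AddCommGroup V] [Module F V] [FiniteDimensional F V] (h2 : (2 : F) ≠ 0)
    {s : Bool} {e : ℕ} {Q : QuadraticForm F V} (h : Sgn Q e s) (g : oGroup Q) [Finite V]
    (hg : Free g) (he : Even (orderOf g)) {k : ℕ} (hk : Odd k)
    (hcard : Nat.card {x : V // Q x = 1} = orderOf g * k)
    (ho : (if s then Fintype.card F ^ e - 1 else Fintype.card F ^ e + 1) ∣ orderOf g) : Gen F s e := by
  let L : (Fin (2 * e) → F) ≃ₗ[F] V := (Module.finBasisOfFinrankEq F V h.2.1).equivFun.symm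
  let T := oTrans (Q := Q) (Q' := Q.comp L.toLinearMap) L.symm (fun v => by simp)
  have hc : Nat.card {x : Fin (2 * e) → F // Q.comp L.toLinearMap x = 1} = orderOf (T g) * k := by
    rw [MulEquiv.orderOf_eq, ← hcard]
    exact Nat.card_congr (L.toEquiv.subtypeEquiv fun x => Iff.rfl)
  have hf : Free (T g) := fun j => by
    rcases hg j with h1 | h1
    · exact Or.inl (by rw [← map_pow, h1, map_one])
    · refine Or.inr fun v hv => L.injective ?_
      rw [map_zero]
      refine h1 (L v) (L.symm.injective ?_)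
      rw [L.symm_apply_apply]
      rw [← map_pow] at hv
      conv_rhs => rw [← hv]
      have := oTrans_apply (Q := Q) (Q' := Q.comp L.toLinearMap) L.symm (fun v => by simp) (g ^ j) (L v)
      rw [L.symm_apply_apply] at this
      exact this.symm
  have he' : Even (orderOf (T g)) := by rwa [MulEquiv.orderOf_eq]
  have hev : Even (Module.finrank F (Fin (2 * e) → F)) := by simp
  obtain ⟨e1, e2⟩ := free_inv h2 hf he' hev hk hc
  exact ⟨_, T g, sgn_comp h L, e1, e2, by rwa [MulEquiv.orderOf_eq]⟩

theorem exists_ne_zero' {V : Type v} [AddCommGroup V] [Module F V] [FiniteDimensional F V]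
    {Q : QuadraticForm F V} {m : ℕ} {s : Bool} (hm : 1 ≤ m) (h : Sgn Q m s) : ∃ v, Q v ≠ 0 := by
  by_contra hne
  push Not at hne
  haveI : Nontrivial V := Module.nontrivial_of_finrank_pos (R := F) (by rw [h.2.1]; omega)
  obtain ⟨x, hx⟩ := exists_ne (0 : V)
  exact hx (h.1.1 x fun y => by simp [QuadraticMap.polar, hne])

/-- The split torus. -/
theorem gen_plus (h2 : (2 : F) ≠ 0) {e : ℕ} (he : 1 ≤ e) : Gen F true e := by
  classical
  obtain ⟨p, hp⟩ := CharP.exists F
  obtain ⟨_, hpp, -⟩ := FiniteField.card F p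
  haveI := Fact.mk hpp
  haveI : NeZero e := ⟨by omega⟩
  let K := FiniteField.Extension F p e
  have hfr : Module.finrank F K = e := FiniteField.finrank_extension F p e
  haveI := Fintype.ofFinite K
  obtain ⟨w, hw⟩ := IsCyclic.exists_ofOrder_eq_natCard (α := Kˣ)
  have hKu : Nat.card Kˣ = Fintype.card F ^ e - 1 := by
    rw [Nat.card_units, Module.natCard_eq_pow_finrank (K := F) (V := K), hfr, Nat.card_eq_fintype_card]
  rw [hKu] at hw
  let b : LinearMap.BilinForm F (K × K) :=
    LinearMap.mk₂ F (fun x y => Algebra.trace F K (x.1 * y.2))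
      (fun x x' y => by simp [add_mul]) (fun c x y => by simp)
      (fun x y y' => by simp [mul_add]) (fun c x y => by simp)
  have hb : ∀ x y, b x y = Algebra.trace F K (x.1 * y.2) := fun _ _ => rfl
  have hQ : ∀ x, b.toQuadraticMap x = Algebra.trace F K (x.1 * x.2) := fun x => by
    rw [LinearMap.BilinMap.toQuadraticMap_apply, hb]
  have hS : Sgn b.toQuadraticMap e true := by
    refine ⟨nondeg_left fun x hx => ?_, by rw [Module.finrank_prod, hfr]; omega, iff_of_true ?_ rfl⟩
    · refine Prod.ext ((traceForm_nondegenerate F K).1 x.1 fun y => ?_)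
        ((traceForm_nondegenerate F K).1 x.2 fun y => ?_)
      · have := hx (0, y)
        rw [LinearMap.BilinMap.polar_toQuadraticMap, hb, hb] at this
        rw [Algebra.traceForm_apply]
        simpa using this
      · have := hx (y, 0)
        rw [LinearMap.BilinMap.polar_toQuadraticMap, hb, hb] at this
        rw [Algebra.traceForm_apply, mul_comm]
        simpa using this
    · refine ⟨LinearMap.range (LinearMap.inl F K K),
        by rw [LinearMap.finrank_range_of_inj LinearMap.inl_injective, hfr], ?_⟩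
      rintro _ ⟨x, rfl⟩
      simp [hQ]
  have hw0 : (w : K) ≠ 0 := w.ne_zero
  let g : oGroup b.toQuadraticMap :=
    ⟨(mulE (w : K) hw0).prodCongr (mulE (w : K)⁻¹ (inv_ne_zero hw0)), fun v => by
      rw [hQ, hQ]
      congr 1
      show (w : K) * v.1 * ((w : K)⁻¹ * v.2) = v.1 * v.2
      linear_combination (v.1 * v.2) * mul_inv_cancel₀ hw0⟩
  have hpow : ∀ (j : ℕ) (v : K × K), (g ^ j).1 v = ((w : K) ^ j * v.1, ((w : K)⁻¹) ^ j * v.2) := by
    intro j
    induction j with
    | zero => intro v; simp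
    | succ j ih =>
      intro v
      rw [pow_succ, Subgroup.coe_mul, LinearEquiv.mul_apply, ih, pow_succ, pow_succ, mul_assoc, mul_assoc]
      rfl
  have hone : ∀ j, g ^ j = 1 ↔ (w : K) ^ j = 1 := fun j => by
    constructor
    · intro h
      have h1 := congrArg Prod.fst (hpow j (1, 0))
      rw [h, mul_one] at h1
      exact h1.symm
    · intro h
      refine Subtype.ext (LinearEquiv.ext fun v => ?_)
      rw [hpow, inv_pow, h, inv_one, one_mul, one_mul]
      rfl
  have hord : orderOf g = Fintype.card F ^ e - 1 := by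
    rw [← hw]
    refine Nat.dvd_antisymm (orderOf_dvd_of_pow_eq_one ((hone _).2 ?_))
      (orderOf_dvd_of_pow_eq_one (Units.ext ?_))
    · rw [← Units.val_pow_eq_pow_val, pow_orderOf_eq_one, Units.val_one]
    · rw [Units.val_pow_eq_pow_val]; exact (hone _).1 (pow_orderOf_eq_one g)
  have hfree : Free g := fun j => by
    by_cases h : (w : K) ^ j = 1
    · exact Or.inl ((hone j).2 h)
    · refine Or.inr fun v hv => ?_
      rw [hpow] at hv
      refine Prod.ext ?_ ?_
      · by_contra h0
        exact h (mul_right_cancel₀ h0 ((congrArg Prod.fst hv).trans (one_mul v.1).symm))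
      · by_contra h0
        have h1 := mul_right_cancel₀ h0 ((congrArg Prod.snd hv).trans (one_mul v.2).symm)
        rw [inv_pow, inv_eq_one] at h1
        exact h h1
  -- the sphere
  let T : K →ₗ[F] F := Algebra.trace F K
  have hTs : Function.Surjective T := Algebra.trace_surjective F K
  obtain ⟨n₀, hn₀⟩ := hTs 1
  let A := {n : K // T n = 1}
  have hA : Odd (Nat.card A) := by
    rw [Nat.card_congr (β := LinearMap.ker T)
      { toFun := fun n => ⟨n.1 - n₀, by rw [LinearMap.mem_ker, map_sub, n.2, hn₀, sub_self]⟩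
        invFun := fun n => ⟨n.1 + n₀, by rw [map_add, LinearMap.mem_ker.1 n.2, hn₀, zero_add]⟩
        left_inv := fun n => Subtype.ext (sub_add_cancel _ _)
        right_inv := fun n => Subtype.ext (add_sub_cancel_right _ _) },
      Module.natCard_eq_pow_finrank (K := F) (V := LinearMap.ker T), Nat.card_eq_fintype_card]
    exact (odd_card h2).pow
  have hcard : Nat.card {x : K × K // b.toQuadraticMap x = 1} = orderOf g * Nat.card A := by
    rw [hord, ← hKu, ← Nat.card_prod]
    refine Nat.card_congr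
      { toFun := fun x => (Units.mk0 x.1.1 (fun h0 => by
            have := x.2; rw [hQ, h0, zero_mul, map_zero] at this; exact zero_ne_one this),
          ⟨x.1.1 * x.1.2, (hQ _).symm.trans x.2⟩)
        invFun := fun p => ⟨((p.1 : K), ((p.1⁻¹ : Kˣ) : K) * p.2.1), by
          rw [hQ, ← mul_assoc, Units.mul_inv, one_mul]; exact p.2.2⟩
        left_inv := fun x => Subtype.ext (Prod.ext rfl (by
          have hx0 : x.1.1 ≠ 0 := fun h0 => by
            have := x.2; rw [hQ, h0, zero_mul, map_zero] at this; exact zero_ne_one this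
          simp [hx0]))
        right_inv := fun p => Prod.ext (Units.ext rfl) (Subtype.ext (by simp)) }
  refine gen_of h2 hS g hfree ?_ hA hcard (by rw [if_pos rfl, hord])
  rw [hord]
  exact Nat.Odd.sub_odd ((odd_card h2).pow) odd_one

variable {a b : F} (hab : ∀ z₁ z₂ : F, z₁ ^ 2 + a * z₁ * z₂ + b * z₂ ^ 2 = 0 → z₁ = 0 ∧ z₂ = 0)

include hab

/-- The norm-one torus. -/
theorem gen_minus (h2 : (2 : F) ≠ 0) {e : ℕ} (he : 1 ≤ e) : Gen F false e := by
  classical
  obtain ⟨p, hp⟩ := CharP.exists F
  obtain ⟨_, hpp, -⟩ := FiniteField.card F p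
  haveI := Fact.mk hpp
  haveI : NeZero (2 * e) := ⟨by omega⟩
  set q := Fintype.card F with hq
  let K := FiniteField.Extension F p (2 * e)
  have hfr : Module.finrank F K = 2 * e := FiniteField.finrank_extension F p (2 * e)
  haveI := Fintype.ofFinite K
  have hK2 : (2 : K) ≠ 0 := fun h => h2 ((algebraMap F K).injective (by rw [map_ofNat, h, map_zero]))
  have hq2 : 2 ≤ q := Fintype.one_lt_card
  have hqe : 2 ≤ q ^ e := hq2.trans (Nat.le_self_pow (by omega) q)
  obtain ⟨w, hw⟩ := IsCyclic.exists_ofOrder_eq_natCard (α := Kˣ)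
  rw [Nat.card_units, Module.natCard_eq_pow_finrank (K := F) (V := K), hfr,
    Nat.card_eq_fintype_card, ← hq] at hw
  have hfac : q ^ (2 * e) - 1 = (q ^ e - 1) * (q ^ e + 1) := by
    rw [mul_comm 2 e, pow_mul, mul_comm (q ^ e - 1), ← Nat.sq_sub_sq, one_pow]
  have hy : orderOf (w ^ (q ^ e - 1)) = q ^ e + 1 := by
    have h0 : q ^ e - 1 ≠ 0 := by omega
    rw [orderOf_pow' _ h0, hw, hfac, Nat.gcd_mul_right_left, Nat.mul_div_cancel_left _ (by omega)]
  set y := w ^ (q ^ e - 1) with hydef
  let τ : K →ₐ[F] K := (FiniteField.frobeniusAlgHom F K) ^ e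
  have hτ : ∀ x : K, τ x = x ^ (q ^ e) := fun x => by
    show (⇑((FiniteField.frobeniusAlgHom F K) ^ e)) x = _
    rw [AlgHom.coe_pow, FiniteField.coe_frobeniusAlgHom, pow_iterate]
  have hcard : Fintype.card K = (q ^ e) ^ 2 := by
    rw [Module.card_eq_pow_finrank (K := F), hfr, ← pow_mul, mul_comm e 2]
  have hττ : ∀ x, τ (τ x) = x := fun x => by
    rw [hτ, hτ, ← pow_mul, ← sq, ← hcard, FiniteField.pow_card]
  have htr : ∀ x, Algebra.trace F K (τ x) = Algebra.trace F K x := fun x =>
    Algebra.trace_eq_of_algEquiv (AlgEquiv.ofBijective τ (Algebra.IsAlgebraic.algHom_bijective τ)) x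
  have hτy : τ (y : K) = (y : K)⁻¹ := by
    rw [hτ]
    refine eq_inv_of_mul_eq_one_left ?_
    rw [← pow_succ, ← Units.val_pow_eq_pow_val, ← hy, pow_orderOf_eq_one]
    rfl
  set c : K := 2⁻¹ with hcdef
  have hτc : τ c = c := by rw [hcdef, map_inv₀, map_ofNat]
  have hc : c + τ c = 1 := by rw [hτc, hcdef, ← two_mul, mul_inv_cancel₀ hK2]
  let bf : LinearMap.BilinForm F K :=
    LinearMap.mk₂ F (fun x z => Algebra.trace F K (c * (x * τ z)))
      (fun x x' z => by simp [add_mul, mul_add]) (fun k x z => by simp)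
      (fun x z z' => by simp [mul_add]) (fun k x z => by simp)
  have hb : ∀ x z, bf x z = Algebra.trace F K (c * (x * τ z)) := fun _ _ => rfl
  have hQ : ∀ x, bf.toQuadraticMap x = Algebra.trace F K (c * x ^ (q ^ e + 1)) := fun x => by
    rw [LinearMap.BilinMap.toQuadraticMap_apply, hb, hτ, pow_succ']
  have hp' : ∀ x z, QuadraticMap.polar bf.toQuadraticMap x z = Algebra.trace F K (x * τ z) := fun x z => by
    rw [LinearMap.BilinMap.polar_toQuadraticMap, hb, hb, ← htr (c * (z * τ x)), ← map_add]
    congr 1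
    rw [map_mul, map_mul, hττ]
    linear_combination (x * τ z) * hc
  have hnd : (QuadraticMap.polarBilin bf.toQuadraticMap).Nondegenerate :=
    nondeg_left fun x hx => (traceForm_nondegenerate F K).1 x fun z => by
      have := hx (τ z)
      rwa [hp', hττ] at this
  have hy0 : (y : K) ≠ 0 := y.ne_zero
  let g : oGroup bf.toQuadraticMap := ⟨mulE (y : K) hy0, fun v => by
    rw [LinearMap.BilinMap.toQuadraticMap_apply, LinearMap.BilinMap.toQuadraticMap_apply, hb, hb]
    congr 1
    show c * ((y : K) * v * τ ((y : K) * v)) = c * (v * τ v)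
    rw [map_mul, hτy]
    linear_combination (c * v * τ v) * mul_inv_cancel₀ hy0⟩
  have hpow : ∀ (j : ℕ) (v : K), (g ^ j).1 v = (y : K) ^ j * v := by
    intro j
    induction j with
    | zero => intro v; simp
    | succ j ih =>
      intro v
      rw [pow_succ, Subgroup.coe_mul, LinearEquiv.mul_apply, ih, pow_succ, mul_assoc]
      rfl
  have hfree : Free g := fun j => by
    by_cases h : (y : K) ^ j = 1
    · exact Or.inl (Subtype.ext (LinearEquiv.ext fun v => by rw [hpow, h, one_mul]; rfl))
    · refine Or.inr fun v hv => ?_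
      rw [hpow] at hv
      by_contra h0
      exact h (mul_right_cancel₀ h0 (hv.trans (one_mul v).symm))
  have hord : orderOf g = q ^ e + 1 := by
    rw [← hy]
    refine Nat.dvd_antisymm (orderOf_dvd_of_pow_eq_one (Subtype.ext (LinearEquiv.ext fun v => ?_)))
      (orderOf_dvd_of_pow_eq_one (Units.ext ?_))
    · rw [hpow, ← Units.val_pow_eq_pow_val, pow_orderOf_eq_one, Units.val_one, one_mul]; rfl
    · have := hpow (orderOf g) 1
      rw [pow_orderOf_eq_one, mul_one] at this
      rw [Units.val_pow_eq_pow_val, ← this]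
      rfl
  have hg1 : g ≠ 1 := fun h => by rw [h, orderOf_one] at hord; omega
  -- the type
  have hS : Sgn bf.toQuadraticMap e false := by
    refine ⟨hnd, hfr, iff_of_false (fun hh => ?_) (by simp)⟩
    obtain ⟨L, hL⟩ := equiv_plus_of_half hab he hfr bf.toQuadraticMap hnd hh
    obtain ⟨k, hk, -⟩ := free_sphere hfree hg1
    have e1 : Nat.card {x : K // bf.toQuadraticMap x = 1} =
        Nat.card {v : PI e → F // Cfsg.quadFormPlus e F v = 1} :=
      Nat.card_congr (L.toEquiv.subtypeEquiv fun v => by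
        show bf.toQuadraticMap v = 1 ↔ Cfsg.quadFormPlus e F (L v) = 1
        rw [hL])
    have h := FormCount.card_plus (F := F) e (1 : F)
    rw [if_neg one_ne_zero, ← e1, hk, hord, ← hq] at h
    have h' : q * ((q ^ e + 1) * k) + q ^ e = q ^ (2 * e) := by
      push_cast at h
      exact_mod_cast (show (q : ℤ) * (((q : ℤ) ^ e + 1) * k) + (q : ℤ) ^ e = (q : ℤ) ^ (2 * e) by
        linear_combination h)
    have hd : q ^ e + 1 ∣ q ^ e * (q ^ e - 1) := ⟨q * k, by
      have : q ^ e * (q ^ e - 1) = q ^ (2 * e) - q ^ e := by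
        rw [Nat.mul_sub, mul_one, two_mul, pow_add]
      rw [this, ← h', Nat.add_sub_cancel]; ring⟩
    have := Nat.le_of_dvd (by omega) ((Nat.coprime_self_add_left.2 (Nat.coprime_one_left _)).dvd_of_dvd_mul_left hd)
    omega
  -- the sphere
  let A0 : Submodule F K := LinearMap.ker (τ.toLinearMap - LinearMap.id) ⊓
    LinearMap.ker ((Algebra.trace F K).comp (LinearMap.mulLeft F c))
  let A := {n : K // τ n = n ∧ Algebra.trace F K (c * n) = 1}
  haveI : Fintype A := Fintype.ofFinite A
  have hnfix : ∀ x : K, τ (x ^ (q ^ e + 1)) = x ^ (q ^ e + 1) := fun x => by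
    rw [pow_succ', ← hτ, map_mul, hττ, mul_comm]
  obtain ⟨x₀, hx₀⟩ : ∃ x, bf.toQuadraticMap x ≠ 0 := exists_ne_zero' he hS
  let n₀ : K := (Algebra.trace F K (c * x₀ ^ (q ^ e + 1)))⁻¹ • x₀ ^ (q ^ e + 1)
  have hn₀ : τ n₀ = n₀ ∧ Algebra.trace F K (c * n₀) = 1 := by
    refine ⟨by rw [map_smul, hnfix], ?_⟩
    rw [mul_smul_comm, map_smul, smul_eq_mul, inv_mul_cancel₀]
    rw [← hQ]; exact hx₀
  have hA : Odd (Nat.card A) := by
    rw [Nat.card_congr (β := A0)
      { toFun := fun n => ⟨n.1 - n₀, by
          simp [A0, Submodule.mem_inf, map_sub, n.2.1, hn₀.1, mul_sub, n.2.2, hn₀.2]⟩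
        invFun := fun n => ⟨n.1 + n₀, by
          have h := n.2
          simp only [A0, Submodule.mem_inf, LinearMap.mem_ker, LinearMap.sub_apply, LinearMap.id_coe,
            id_eq, sub_eq_zero, AlgHom.toLinearMap_apply, LinearMap.comp_apply,
            LinearMap.mulLeft_apply] at h
          exact ⟨by rw [map_add, h.1, hn₀.1], by rw [mul_add, map_add, h.2, hn₀.2, zero_add]⟩⟩
        left_inv := fun n => Subtype.ext (sub_add_cancel _ _)
        right_inv := fun n => Subtype.ext (add_sub_cancel_right _ _) },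
      Module.natCard_eq_pow_finrank (K := F) (V := A0), Nat.card_eq_fintype_card]
    exact (odd_card h2).pow
  have hS1 : Nat.card {x : K // bf.toQuadraticMap x = 1} = orderOf g * Nat.card A := by
    rw [hord]
    have e : {x : K // bf.toQuadraticMap x = 1} ≃ Σ n : A, {x : K // x ^ (q ^ e + 1) = n.1} :=
      { toFun := fun x => ⟨⟨x.1 ^ (q ^ e + 1), hnfix x.1, by rw [← hQ]; exact x.2⟩, x.1, rfl⟩
        invFun := fun p => ⟨p.2.1, by rw [hQ, p.2.2]; exact p.1.2.2⟩
        left_inv := fun x => rfl
        right_inv := fun p => Sigma.subtype_ext (Subtype.ext p.2.2) rfl }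
    rw [Nat.card_congr e, Nat.card_sigma, Nat.card_eq_fintype_card (α := A)]
    rw [Finset.sum_const_nat (m := q ^ (_ : ℕ) + 1) fun n _ => by
      have hn1 := n.2.2
      rw [FormCount.card_norm_eq hcard (by rw [← hτ]; exact n.2.1), if_neg fun h0 => ?_]
      rw [h0, mul_zero, map_zero] at hn1
      exact zero_ne_one hn1]
    rw [Finset.card_univ, mul_comm]
  exact gen_of h2 hS g hfree (by rw [hord]; exact ((odd_card h2).pow).add_one) hA hS1
    (by rw [if_neg (by simp), hord])

end Cfsg.Agent.SpinNine
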