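import Cfsg.Agent.Lib.SpinNine.Tori
import Cfsg.Agent.Lib.FormTorus.Models

/-!
Regular unipotent isometries in odd dimension, and the largest ones in even dimension.
-/

set_option autoImplicit false
set_option linter.unusedSectionVars false

namespace Cfsg.Agent.SpinNine

open FormsLib FormTorus OrthClasses SpEightEven Polynomial

universe u v w

section Inter

variable {F : Type u} [Field F] {V : Type v} [AddCommGroup V] [Module F V]
  {W : Type w} [AddCommGroup W] [Module F W]

theorem inter_pow (f : V →ₗ[F] W) {a : Module.End F V} {b : Module.End F W}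
    (h : ∀ v, f (a v) = b (f v)) : ∀ (j : ℕ) (v : V), f ((a ^ j) v) = (b ^ j) (f v) := by
  intro j
  induction j with
  | zero => intro v; rfl
  | succ j ih => intro v; rw [pow_succ, Module.End.mul_apply, ih, h, pow_succ, Module.End.mul_apply]

theorem inter_sub_pow (f : V →ₗ[F] W) {a : Module.End F V} {b : Module.End F W}
    (h : ∀ v, f (a v) = b (f v)) (j : ℕ) (v : V) : f (((a - 1) ^ j) v) = ((b - 1) ^ j) (f v) :=
  inter_pow f (fun v => by simp [h]) j v

theorem inter_sum (f : V →ₗ[F] W) {a : Module.End F V} {b : Module.End F W}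
    (h : ∀ v, f (a v) = b (f v)) (j : ℕ) (v : V) :
    f ((∑ i ∈ Finset.range j, a ^ i) v) = (∑ i ∈ Finset.range j, b ^ i) (f v) := by
  rw [LinearMap.sum_apply, LinearMap.sum_apply, map_sum]
  exact Finset.sum_congr rfl fun i _ => inter_pow f h i v

/-- A geometric sum with a prime power number of terms. -/
theorem geom_prime_pow (p : ℕ) [hp : Fact p.Prime] [CharP F p] (T : Module.End F V) (c : ℕ) :
    ∑ i ∈ Finset.range (p ^ c), T ^ i = (T - 1) ^ (p ^ c - 1) := by
  have h : ∑ i ∈ Finset.range (p ^ c), (X : F[X]) ^ i = (X - 1) ^ (p ^ c - 1) := by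
    have hne : (X - 1 : F[X]) ≠ 0 := by simpa using X_sub_C_ne_zero (1 : F)
    refine mul_right_cancel₀ hne ?_
    rw [geom_sum_mul, ← pow_succ, Nat.sub_add_cancel (Nat.one_le_pow _ _ hp.out.pos), sub_pow_char_pow,
      one_pow]
  simpa [map_sum] using congrArg (aeval T) h

theorem pow_prime_pow_eq_one_iff (p : ℕ) [hp : Fact p.Prime] [CharP F p] [Nontrivial V]
    (T : Module.End F V) (c : ℕ) : T ^ p ^ c = 1 ↔ (T - 1) ^ p ^ c = 0 := by
  haveI : CharP (Module.End F V) p :=
    charP_of_injective_algebraMap (algebraMap F (Module.End F V)).injective p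
  rw [sub_pow_char_pow_of_commute (p := p) (h := Commute.one_right _), one_pow, sub_eq_zero]

end Inter

variable {F : Type u} [Field F] [Fintype F] (p : ℕ) [hp : Fact p.Prime] [CharP F p]

/-- A regular unipotent isometry in dimension `2k+1`. -/
theorem exists_reg_odd (h2 : (2 : F) ≠ 0) (k : ℕ) :
    ∃ (Q : QuadraticForm F (Fin (2 * k + 1) → F)) (u : oGroup Q),
      (QuadraticMap.polarBilin Q).Nondegenerate ∧ (∃ N, u ^ p ^ N = 1) ∧
      (en u.1 - 1) ^ (2 * k) ≠ 0 := by
  obtain ⟨hfinite, hfr⟩ := finrank_UR (F := F) (2 * k + 1)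
  obtain ⟨B, g, hB, hg, hgt⟩ := exists_unipotent_model (F := F) (σ := RingHom.id F) (ε := (1 : F))
    (m := 2 * k + 1) (by omega) (fun _ => rfl) (by simp) ⟨1, by
      rw [Nat.add_sub_cancel, pow_mul, neg_one_sq, one_pow]
      simpa [one_add_one_eq_two] using h2⟩
  let R := UR F (2 * k + 1)
  let Q0 : QuadraticForm F R := LinearMap.BilinMap.toQuadraticMap B
  have hp0 : ∀ x y, QuadraticMap.polar Q0 x y = 2 * B x y := fun x y => by
    rw [LinearMap.BilinMap.polar_toQuadraticMap, hB.flip y x, RingHom.id_apply]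
    ring
  have hQ0 : (QuadraticMap.polarBilin Q0).Nondegenerate := nondeg_left fun x hx => hB.nondeg x fun y =>
    (mul_eq_zero.1 ((hp0 x y).symm.trans (hx y))).resolve_left h2
  let e : (Fin (2 * k + 1) → F) ≃ₗ[F] R := (Module.finBasisOfFinrankEq F R hfr).equivFun.symm
  let u0 : oGroup Q0 := ⟨g, fun v => hg v v⟩
  let u := oTrans (Q := Q0) (Q' := Q0.comp e.toLinearMap) e.symm (fun v => by simp) u0
  haveI := finite_equiv (F := F) (V := Fin (2 * k + 1) → F)
  have hi : ∀ v, e (en u.1 v) = en g (e v) := fun v => by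
    have := oTrans_apply (Q := Q0) (Q' := Q0.comp e.toLinearMap) e.symm (fun v => by simp) u0 (e v)
    rw [e.symm_apply_apply] at this
    show e (u.1 v) = g (e v)
    rw [this, e.apply_symm_apply]
  set t : R := AdjoinRoot.root ((X - 1 : F[X]) ^ (2 * k + 1)) with htdef
  have hgpow : ∀ (j : ℕ) (v : R), ((en g - 1) ^ j) v = (t - 1) ^ j * v := by
    intro j
    induction j with
    | zero => intro v; simp
    | succ j ih =>
      intro v
      rw [pow_succ (en g - 1) j, Module.End.mul_apply, ih, LinearMap.sub_apply, Module.End.one_apply,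
        pow_succ (t - 1) j, mul_assoc, sub_one_mul]
      show _ * (g v - v) = _
      rw [hgt]
  refine ⟨_, u, nondeg_comp hQ0 e, ⟨2 * k + 1, ?_⟩, fun h => ?_⟩
  · haveI : Nontrivial (Fin (2 * k + 1) → F) := inferInstance
    refine Subtype.ext (LinearEquiv.toLinearMap_injective ?_)
    show en ((u ^ p ^ (2 * k + 1) : oGroup _) : (Fin (2 * k + 1) → F) ≃ₗ[F] _) = 1
    rw [en_oGroup_pow, pow_prime_pow_eq_one_iff p]
    refine LinearMap.ext fun v => e.injective ?_
    rw [LinearMap.zero_apply, map_zero]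
    refine (inter_sub_pow e.toLinearMap hi _ v).trans ?_
    rw [hgpow, htdef, ← AdjoinRoot.mk_X, ← map_one (AdjoinRoot.mk _), ← map_sub, ← map_pow,
      AdjoinRoot.mk_eq_zero.2 (pow_dvd_pow _ (Nat.lt_pow_self hp.out.one_lt).le), zero_mul]
  · have h1 := inter_sub_pow e.toLinearMap hi (2 * k) (e.symm 1)
    rw [h, LinearMap.zero_apply, map_zero, LinearEquiv.coe_coe, e.apply_symm_apply, hgpow, mul_one,
      htdef, ← AdjoinRoot.mk_X, ← map_one (AdjoinRoot.mk _), ← map_sub, ← map_pow] at h1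
    have h1' := AdjoinRoot.mk_eq_zero.1 h1.symm
    have h2' := natDegree_le_of_dvd h1' (pow_ne_zero _ (by rw [← C_1]; exact X_sub_C_ne_zero 1))
    rw [← C_1, natDegree_pow, natDegree_pow, natDegree_X_sub_C] at h2'
    omega

variable {a b : F} (hab : ∀ z₁ z₂ : F, z₁ ^ 2 + a * z₁ * z₂ + b * z₂ ^ 2 = 0 → z₁ = 0 ∧ z₂ = 0)

include hab

/-- A unipotent isometry with a block of size `2m-1` on a space of either type. -/
theorem exists_reg_even (h2 : (2 : F) ≠ 0) {m : ℕ} (hm : 1 ≤ m) (s : Bool) :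
    ∃ (Q : QuadraticForm F (Fin (2 * m) → F)) (u : oGroup Q), Sgn Q m s ∧ (∃ N, u ^ p ^ N = 1) ∧
      (en u.1 - 1) ^ (2 * m - 2) ≠ 0 := by
  obtain ⟨k, rfl⟩ : ∃ k, m = k + 1 := ⟨m - 1, by omega⟩
  have hQ' : ∃ Q : QuadraticForm F (Fin (2 * (k + 1)) → F), Sgn Q (k + 1) s := by
    cases s
    · obtain ⟨Q, -, hQ, -⟩ := gen_minus hab h2 hm
      exact ⟨Q, hQ⟩
    · obtain ⟨Q, -, hQ, -⟩ := gen_plus (F := F) h2 hm
      exact ⟨Q, hQ⟩
  obtain ⟨Q, hQ⟩ := hQ'
  obtain ⟨w, hw⟩ := exists_ne_zero' hm hQ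
  let P : Submodule F (Fin (2 * (k + 1)) → F) := LinearMap.ker ((QuadraticMap.polarBilin Q).flip w)
  let L1 : Submodule F (Fin (2 * (k + 1)) → F) := F ∙ w
  have hww : QuadraticMap.polar Q w w ≠ 0 := by
    rw [polar_self']; exact mul_ne_zero h2 hw
  have hmem : ∀ x, x ∈ P ↔ QuadraticMap.polar Q x w = 0 := fun x => by
    simp [P, LinearMap.mem_ker]
  have hc : IsCompl P L1 := by
    refine ⟨Submodule.disjoint_def.2 fun x hx hx1 => ?_, codisjoint_iff.2 (eq_top_iff.2 fun x _ => ?_)⟩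
    · obtain ⟨t, rfl⟩ := Submodule.mem_span_singleton.1 hx1
      rw [hmem, QuadraticMap.polar_smul_left, smul_eq_mul] at hx
      rw [(mul_eq_zero.1 hx).resolve_right hww, zero_smul]
    · refine Submodule.mem_sup.2 ⟨x - (QuadraticMap.polar Q x w / QuadraticMap.polar Q w w) • w, ?_,
        _, Submodule.smul_mem _ _ (Submodule.mem_span_singleton_self w), sub_add_cancel _ _⟩
      rw [hmem, QuadraticMap.polar_sub_left, QuadraticMap.polar_smul_left, smul_eq_mul,
        div_mul_cancel₀ _ hww, sub_self]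
  have horth : ∀ x ∈ P, ∀ z ∈ L1, QuadraticMap.polar Q x z = 0 := fun x hx z hz => by
    obtain ⟨t, rfl⟩ := Submodule.mem_span_singleton.1 hz
    rw [QuadraticMap.polar_smul_right, (hmem x).1 hx, smul_zero]
  let QP : QuadraticForm F P := Q.comp P.subtype
  let QL : QuadraticForm F L1 := Q.comp L1.subtype
  let e := Submodule.prodEquivOfIsCompl P L1 hc
  have he : ∀ v, Q (e v) = QP.prod QL v := fun v => by
    rw [QuadraticMap.prod_apply]
    show Q ((v.1 : Fin (2 * (k + 1)) → F) + v.2) = Q v.1 + Q v.2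
    rw [quad_add, horth _ v.1.2 _ v.2.2, add_zero]
  have hfin : Module.finrank F P = 2 * k + 1 := by
    have h1 := Submodule.finrank_add_eq_of_isCompl hc
    rw [finrank_span_singleton (fun h => hw (by rw [h, QuadraticMap.map_zero])),
      Module.finrank_fin_fun] at h1
    omega
  have hndP : (QuadraticMap.polarBilin QP).Nondegenerate := nondeg_left fun x hx => Subtype.ext
    (hQ.1.1 x fun y => by
      obtain ⟨y1, hy1, y2, hy2, rfl⟩ := Submodule.mem_sup.1
        (hc.sup_eq_top ▸ Submodule.mem_top : y ∈ P ⊔ L1)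
      rw [QuadraticMap.polarBilin_apply_apply, QuadraticMap.polar_add_right, horth _ x.2 _ hy2, add_zero]
      have := hx ⟨y1, hy1⟩
      simpa [QuadraticMap.polar, QP] using this)
  obtain ⟨Qr, ur, hQr, ⟨N, hN⟩, hne⟩ := exists_reg_odd p h2 k
  obtain ⟨c₁, L₁, hc₁, hL₁⟩ := exists_similar_odd h2 hfin QP hndP
  obtain ⟨c₂, L₂, hc₂, hL₂⟩ := exists_similar_odd h2 (Module.finrank_fin_fun F) Qr hQr
  let M := L₂.trans L₁.symm
  have hM : ∀ v, c₁ * QP (M v) = c₂ * Qr v := fun v => by
    rw [← hL₁, ← hL₂]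
    simp [M]
  let uP : oGroup QP := ⟨(M.symm.trans ur.1).trans M, fun v => by
    refine mul_left_cancel₀ hc₁ ?_
    show c₁ * QP (M (ur.1 (M.symm v))) = _
    rw [hM, ur.2, ← hM, M.apply_symm_apply]⟩
  let T := oTrans (Q := QP.prod QL) (Q' := Q) e he
  let u := T (oProd QP QL (uP, 1))
  let f : (Fin (2 * k + 1) → F) →ₗ[F] (Fin (2 * (k + 1)) → F) :=
    e.toLinearMap ∘ₗ (LinearMap.inl F P L1) ∘ₗ M.toLinearMap
  have hf : ∀ v, f (en ur.1 v) = en u.1 (f v) := fun v => by
    show e (M (ur.1 v), 0) = (T (oProd QP QL (uP, 1))).1 (e (M v, 0))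
    rw [oTrans_apply]
    congr 1
    show (M (ur.1 v), (0 : L1)) = (M (ur.1 (M.symm (M v))), (0 : L1))
    rw [M.symm_apply_apply]
  have hfi : Function.Injective f := fun x y h => M.injective (congrArg Prod.fst (e.injective h))
  haveI := finite_equiv (F := F) (V := Fin (2 * k + 1) → F)
  refine ⟨Q, u, hQ, ⟨N, ?_⟩, fun h => hne ?_⟩
  · have h1 : uP ^ p ^ N = 1 := by
      refine Subtype.ext (LinearEquiv.ext fun v => ?_)
      have h3 := inter_pow M.toLinearMap (a := en ur.1) (b := en uP.1) (fun v => by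
        show M (ur.1 v) = M (ur.1 (M.symm (M v)))
        rw [M.symm_apply_apply]) (p ^ N) (M.symm v)
      rw [← en_oGroup_pow, ← en_oGroup_pow, hN, LinearEquiv.coe_coe, M.apply_symm_apply] at h3
      refine h3.symm.trans ?_
      show M (M.symm v) = v
      rw [M.apply_symm_apply]
    rw [show u ^ p ^ N = T (oProd QP QL ((uP, 1) ^ p ^ N)) by rw [map_pow, map_pow], Prod.pow_mk, h1,
      one_pow, Prod.mk_one_one, map_one, map_one]
  · have e2 : 2 * (k + 1) - 2 = 2 * k := by omega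
    rw [e2] at h
    refine LinearMap.ext fun v => hfi ?_
    rw [inter_sub_pow f hf, LinearMap.zero_apply, map_zero, h, LinearMap.zero_apply]

end Cfsg.Agent.SpinNine
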